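import Cfsg.Agent.H68.SimpleA7.Eight
import Cfsg.Agent.H6.Basic
import Cfsg.Agent.S1230

/-!
# Order 2520: no elementary abelian Sylow two-subgroup

The normaliser of the Sylow two-subgroup has order 56, 168 or 280; each order is impossible.
-/

set_option autoImplicit false
set_option linter.all false

namespace Cfsg.Agent.H68.SimpleA7

open Subgroup

variable {G : Type*} [Group G] [Finite G]

theorem mem_centralizer_zpowers {x g : G} (hg : Commute g x) :
    g ∈ centralizer (zpowers x : Set G) := by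
  rw [zpowers_eq_closure, centralizer_closure]
  exact mem_centralizer_singleton_iff.2 hg.eq

theorem Hyp.commute_two (h : Hyp G) (P : Sylow 2 G) {a b : G} (ha : a ∈ (P : Subgroup G))
    (hb : b ∈ (P : Subgroup G)) : Commute a b := by
  have h1 := h.exponent_two P _ (mul_mem ha hb)
  have h2 := h.exponent_two P a ha
  have h3 := h.exponent_two P b hb
  show a * b = b * a
  calc a * b = (a * a) * (b * a) * (b * b) := by
        rw [show (a * a) * (b * a) * (b * b) = a * ((a * b) * (a * b)) * b by group, h1, mul_one]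
    _ = b * a := by rw [h2, h3, one_mul, mul_one]

theorem Hyp.orbit_seven (h : Hyp G) (P : Sylow 2 G) {t : G} (ht : t ∈ (P : Subgroup G))
    (ht1 : t ≠ 1) :
    7 * Nat.card (normalizer ((P : Subgroup G) : Set G) ⊓ centralizer ({t} : Set G) : Subgroup G) =
      Nat.card (normalizer ((P : Subgroup G) : Set G)) := by
  have he : (Set.range fun n : normalizer ((P : Subgroup G) : Set G) => (n : G) * t * (n : G)⁻¹) =
      ((P : Subgroup G) : Set G) \ {1} := by
    refine Set.Subset.antisymm ?_ fun u hu => ?_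
    · rintro _ ⟨n, rfl⟩
      exact ⟨(Subgroup.mem_normalizer_iff.1 n.2 t).1 ht, fun e => ht1 (conj_eq_one_iff.1 e)⟩
    · obtain ⟨n, hn, hnu⟩ := h.transitive P ht ht1 hu.1 hu.2
      exact ⟨⟨n, hn⟩, hnu⟩
  rw [← card_range_conj (normalizer ((P : Subgroup G) : Set G)) t, he,
    Set.ncard_diff_singleton_of_mem (one_mem _), ← Nat.card_coe_set_eq]
  show _ = (Nat.card (P : Subgroup G) - 1) * _
  rw [h.card_sylow_two P]

/-- No element outside the Sylow two-subgroup centralises it. -/
theorem Hyp.card_centralizer_two (h : Hyp G) (P : Sylow 2 G) :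
    Nat.card (centralizer ((P : Subgroup G) : Set G)) = 8 := by
  haveI := h.simple
  set S := (P : Subgroup G)
  set C := centralizer (S : Set G)
  have hS8 : Nat.card S = 8 := h.card_sylow_two P
  have hSC : S ≤ C := fun a ha => mem_centralizer_iff.2 fun b hb => (h.commute_two P hb ha).eq
  obtain ⟨k, hk⟩ : 8 ∣ Nat.card C := hS8 ▸ Subgroup.card_dvd_of_le hSC
  have hk315 : k ∣ 315 :=
    Nat.dvd_of_mul_dvd_mul_left (by norm_num : 0 < 8) (by rw [← hk]; exact h.card_dvd C)
  have hle : ∀ {x : G}, x ∈ C → S ≤ centralizer ({x} : Set G) := fun {x} hx a ha =>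
    mem_centralizer_singleton_iff.2 (mem_centralizer_iff.1 hx a ha)
  have h5 : ¬ 5 ∣ k := fun hd => by
    haveI : Fact (Nat.Prime 5) := ⟨by norm_num⟩
    obtain ⟨⟨x, hxC⟩, hx⟩ := exists_prime_orderOf_dvd_card' (G := C) 5 (hk ▸ hd.mul_left 8)
    rw [← Subgroup.orderOf_coe] at hx
    exact h.no_five hx hS8 (hle hxC)
  have h7 : ¬ 7 ∣ k := fun hd => by
    haveI : Fact (Nat.Prime 7) := ⟨by norm_num⟩
    obtain ⟨⟨x, hxC⟩, hx⟩ := exists_prime_orderOf_dvd_card' (G := C) 7 (hk ▸ hd.mul_left 8)
    rw [← Subgroup.orderOf_coe] at hx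
    exact h.no_seven hx hS8 (hle hxC)
  have hk9 : k = 1 ∨ k = 3 ∨ k = 9 := by
    have key : ∀ k ∈ Nat.divisors 315, ¬ 5 ∣ k → ¬ 7 ∣ k → k = 1 ∨ k = 3 ∨ k = 9 := by decide +kernel
    exact key k (Nat.mem_divisors.2 ⟨hk315, by norm_num⟩) h5 h7
  rcases eq_or_ne k 1 with rfl | hk1
  · rw [hk]
  exfalso
  haveI : Fact (Nat.Prime 3) := ⟨Nat.prime_three⟩
  obtain ⟨R⟩ : Nonempty (Sylow 3 C) := inferInstance
  have hRk : Nat.card (R : Subgroup C) = k := by
    rcases hk9 with rfl | rfl | rfl
    · exact absurd rfl hk1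
    · rw [H30.card_sylow_subgroup R (a := 1) (m := 8) (by rw [hk]; norm_num) (by norm_num)]; norm_num
    · rw [H30.card_sylow_subgroup R (a := 2) (m := 8) (by rw [hk]; norm_num) (by norm_num)]; norm_num
  set NR := normalizer ((R : Subgroup C) : Set C)
  have hSR : S.subgroupOf C ≤ NR := fun a ha => centralizer_le_normalizer _
    (mem_centralizer_iff.2 fun r _ => Subtype.ext (mem_centralizer_iff.1 r.2 a ha).symm)
  have h8 : 8 ∣ Nat.card NR := by
    have := Subgroup.card_dvd_of_le hSR
    rwa [Nat.card_congr (subgroupOfEquivOfLe hSC).toEquiv, hS8] at this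
  have hkNR : k ∣ Nat.card NR := hRk ▸ Subgroup.card_dvd_of_le le_normalizer
  have hall : NR = ⊤ := Subgroup.eq_top_of_le_card _ (by
    rw [hk]
    refine Nat.le_of_dvd Nat.card_pos (Nat.Coprime.mul_dvd_of_dvd_of_dvd ?_ h8 hkNR)
    rcases hk9 with rfl | rfl | rfl <;> norm_num)
  have huniq : Subsingleton (Sylow 3 C) := by
    refine (Nat.card_eq_one_iff_unique.1 ?_).1
    rw [R.card_eq_index_normalizer]
    show NR.index = 1
    rw [hall, index_top]
  set R' := (R : Subgroup C).map C.subtype
  have hR'C : R' ≤ C := map_subtype_le _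
  have hR'k : Nat.card R' = k := by rw [Subgroup.card_map_of_injective C.subtype_injective, hRk]
  have hR'1 : R' ≠ ⊥ := fun e => hk1 (by rw [← hR'k, e, Subgroup.card_bot])
  have hR'p : IsPGroup 3 R' := R.2.map C.subtype
  obtain ⟨P3, hP3⟩ := hR'p.exists_le_sylow
  have hP39 : Nat.card (P3 : Subgroup G) = 3 ^ 2 :=
    H30.card_sylow_subgroup P3 (m := 280) (by rw [h.card]; norm_num) (by norm_num)
  have hP3N : (P3 : Subgroup G) ≤ normalizer (R' : Set G) := fun a ha =>
    centralizer_le_normalizer _ (mem_centralizer_iff.2 fun r hr =>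
      (congrArg Subtype.val (IsPGroup.commutative_of_card_eq_prime_sq hP39
        (⟨r, hP3 hr⟩ : (P3 : Subgroup G)) ⟨a, ha⟩) :))
  have hNN : normalizer (S : Set G) ≤ normalizer (R' : Set G) := by
    intro n hn
    have hnC : ∀ c ∈ C, n * c * n⁻¹ ∈ C := fun c hc => mem_centralizer_iff.2 fun s hs => by
      have h1 : n⁻¹ * s * n ∈ S := by
        simpa using (Subgroup.mem_normalizer_iff.1 (inv_mem hn) s).1 hs
      have h2 := mem_centralizer_iff.1 hc _ h1
      calc s * (n * c * n⁻¹) = n * ((n⁻¹ * s * n) * c) * n⁻¹ := by group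
        _ = n * (c * (n⁻¹ * s * n)) * n⁻¹ := by rw [h2]
        _ = _ := by group
    set M := R'.map (MulAut.conj n).toMonoidHom
    have hMC : M ≤ C := by rintro _ ⟨c, hc, rfl⟩; exact hnC c (hR'C hc)
    have hM : IsPGroup 3 (M.subgroupOf C) :=
      (hR'p.map (MulAut.conj n).toMonoidHom).of_equiv (subgroupOfEquivOfLe hMC).symm
    obtain ⟨R2, hR2⟩ := hM.exists_le_sylow
    have hMR : M ≤ R' := fun m hm => by
      have := hR2 (show (⟨m, hMC hm⟩ : C) ∈ M.subgroupOf C from hm)
      rw [Subsingleton.elim R2 R] at this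
      exact ⟨⟨m, hMC hm⟩, this, rfl⟩
    have heq : M = R' := Subgroup.eq_of_le_of_card_ge hMR
      (Nat.card_congr (R'.equivMapOfInjective _ (MulAut.conj n).injective).toEquiv).le
    exact Subgroup.mem_normalizer_iff.2 fun w => ⟨fun hw => by
      rw [← heq]; exact ⟨w, hw, rfl⟩, fun hw => by
      rw [← heq] at hw
      obtain ⟨w', hw', e⟩ := hw
      exact (MulAut.conj n).injective e ▸ hw'⟩
  obtain ⟨t, ht⟩ : ∃ t : S, t ≠ 1 := by
    haveI : Nontrivial S := Finite.one_lt_card_iff_nontrivial.1 (by omega)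
    exact exists_ne 1
  have h56 : 56 ∣ Nat.card (normalizer (S : Set G)) := by
    rw [← h.orbit_seven P t.2 (fun e => ht (Subtype.ext e)), show (56 : ℕ) = 7 * 8 from rfl]
    refine mul_dvd_mul_left 7 (hS8 ▸ Subgroup.card_dvd_of_le (le_inf le_normalizer fun a ha => ?_))
    exact mem_centralizer_singleton_iff.2 (h.commute_two P ha t.2).eq
  have h504 : 504 ∣ Nat.card (normalizer (R' : Set G)) :=
    Nat.Coprime.mul_dvd_of_dvd_of_dvd (by norm_num : Nat.Coprime 56 9)
      (h56.trans (Subgroup.card_dvd_of_le hNN))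
      (by have := Subgroup.card_dvd_of_le hP3N; rwa [hP39] at this)
  have hR't : R' ≠ ⊤ := h.ne_top (by rw [hR'k]; omega)
  have h315 := h.card_normalizer_le hR'1 hR't
  have := Nat.le_of_dvd Nat.card_pos h504
  omega

theorem Hyp.eq_sylow (h : Hyp G) (P : Sylow 2 G) {a : G}
    (ha : a ∈ normalizer ((P : Subgroup G) : Set G)) (ha2 : a * a = 1) : a ∈ (P : Subgroup G) := by
  haveI : Fact (Nat.Prime 2) := ⟨Nat.prime_two⟩
  have hp : IsPGroup 2 (zpowers a) := by
    rcases (Nat.dvd_prime Nat.prime_two).1 (orderOf_dvd_of_pow_eq_one (show a ^ 2 = 1 by rw [sq, ha2])) with e | e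
    · exact IsPGroup.of_card (n := 0) (by rw [Nat.card_zpowers, e, pow_zero])
    · exact IsPGroup.of_card (n := 1) (by rw [Nat.card_zpowers, e, pow_one])
  exact P.3 (hp.to_sup_of_normal_right' P.2 (zpowers_le.2 ha)) le_sup_right ▸
    mem_sup_left (mem_zpowers a)

theorem Hyp.isConj_involution (h : Hyp G) {a b : G} (ha : orderOf a = 2) (hb : orderOf b = 2) :
    IsConj a b := by
  haveI : Fact (Nat.Prime 2) := ⟨Nat.prime_two⟩
  obtain ⟨P, hP⟩ := (IsPGroup.of_card (p := 2) (n := 1) (G := zpowers a)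
    (by rw [Nat.card_zpowers, ha, pow_one])).exists_le_sylow
  obtain ⟨R, hR⟩ := (IsPGroup.of_card (p := 2) (n := 1) (G := zpowers b)
    (by rw [Nat.card_zpowers, hb, pow_one])).exists_le_sylow
  obtain ⟨g, hg⟩ := MulAction.exists_smul_eq G R P
  have hbP : g * b * g⁻¹ ∈ (P : Subgroup G) := by
    rw [← hg, Sylow.coe_subgroup_smul, Subgroup.mem_pointwise_smul_iff_inv_smul_mem]
    simpa [MulAut.conj_apply, mul_assoc] using hR (mem_zpowers b)
  have ha1 : a ≠ 1 := fun e => by rw [e, orderOf_one] at ha; omega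
  have hb1 : g * b * g⁻¹ ≠ 1 := fun e => by
    rw [conj_eq_one_iff] at e
    rw [e, orderOf_one] at hb; omega
  obtain ⟨n, -, hn⟩ := h.transitive P (hP (mem_zpowers a)) ha1 hbP hb1
  exact (isConj_iff.2 ⟨n, hn⟩).trans (isConj_iff.2 ⟨g, rfl⟩).symm

theorem Hyp.not_four_dvd_orderOf (h : Hyp G) (g : G) : ¬ 4 ∣ orderOf g := by
  rintro ⟨k, hk⟩
  haveI : Fact (Nat.Prime 2) := ⟨Nat.prime_two⟩
  have hk0 : k ≠ 0 := fun e => by
    rw [e, mul_zero] at hk; exact (orderOf_pos g).ne' hk
  have h4 : orderOf (g ^ k) = 2 ^ 2 := by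
    rw [orderOf_pow' g hk0, hk, Nat.gcd_mul_left_left, Nat.mul_div_cancel _ (Nat.pos_of_ne_zero hk0)]
    norm_num
  obtain ⟨R, hR⟩ := (IsPGroup.of_card (p := 2) (n := 2) (G := zpowers (g ^ k))
    (by rw [Nat.card_zpowers, h4])).exists_le_sylow
  have h1 := h.exponent_two R _ (hR (mem_zpowers (g ^ k)))
  have := Nat.le_of_dvd two_pos (orderOf_dvd_of_pow_eq_one (show (g ^ k) ^ 2 = 1 by rw [sq, h1]))
  rw [h4] at this
  norm_num at this

/-- An element of order five commutes with an involution or its centraliser has order 35. -/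
theorem Hyp.five_centralizer (h : Hyp G) {x : G} (hx : orderOf x = 5) :
    (∃ a : G, orderOf a = 2 ∧ Commute x a) ∨
      (Nat.card (centralizer (zpowers x : Set G)) = 35 ∧
        Nat.card (normalizer (zpowers x : Set G)) = 70) := by
  haveI := h.simple
  haveI : Fact (Nat.Prime 5) := ⟨by norm_num⟩
  set Q := zpowers x
  have hQ : Nat.card Q = 5 := by rw [Nat.card_zpowers, hx]
  have hQi : Q.index = 504 := by
    have := Q.card_mul_index; rw [hQ, h.card] at this; omega
  let S : Sylow 5 G := (IsPGroup.of_card (n := 1) (by rw [hQ, pow_one])).toSylow (by rw [hQi]; norm_num)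
  have hS : (S : Subgroup G) = Q := IsPGroup.toSylow_coe _ _
  obtain ⟨e, c, he, he1, hN, hC⟩ :=
    H30.exists_automizer_of_prime_order h.not_comm 5 S (by rw [hS, hQ])
  rw [hS] at hN hC
  by_cases h2 : 2 ∣ c
  · haveI : Fact (Nat.Prime 2) := ⟨Nat.prime_two⟩
    obtain ⟨⟨a, haC⟩, ha⟩ := exists_prime_orderOf_dvd_card' (G := centralizer (Q : Set G)) 2
      (hC ▸ h2.mul_left 5)
    rw [← Subgroup.orderOf_coe] at ha
    exact Or.inl ⟨a, ha, mem_centralizer_iff.1 haC x (mem_zpowers x)⟩
  right
  have h5 := h.five Q hQ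
  rw [hN] at h5
  have he' : e = 2 ∨ e = 4 := by
    have key : ∀ e ∈ Nat.divisors 4, 1 < e → e = 2 ∨ e = 4 := by decide +kernel
    exact key e (Nat.mem_divisors.2 ⟨he, by norm_num⟩) he1
  rcases he' with rfl | rfl
  · rw [hC, hN]; omega
  exfalso
  -- the automizer of order four gives an element whose order is divisible by four
  set N := normalizer (Q : Set G)
  haveI : IsCyclic Q := inferInstance
  have hcard : Nat.card (MulAut Q) = 4 := by
    rw [IsCyclic.card_mulAut, hQ, Nat.totient_prime (by norm_num)]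
  have hker : Nat.card Q.normalizerMonoidHom.ker = 5 * c := by
    rw [normalizerMonoidHom_ker, Nat.card_congr (subgroupOfEquivOfLe (centralizer_le_normalizer _)).toEquiv]
    exact hC
  have hrange : Q.normalizerMonoidHom.range = ⊤ := Subgroup.eq_top_of_card_eq _ (by
    have hm := Q.normalizerMonoidHom.ker.card_mul_index
    rw [hker, Subgroup.index_ker, hN] at hm
    rw [hcard]
    have hc0 : 0 < 5 * c := hC ▸ Nat.card_pos
    exact Nat.eq_of_mul_eq_mul_left hc0 hm)
  haveI : IsCyclic (ZMod (Nat.card Q))ˣ := by rw [hQ]; infer_instance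
  haveI hcyc : IsCyclic (MulAut Q) :=
    (IsCyclic.mulAutMulEquiv Q).isCyclic.2 inferInstance
  obtain ⟨α, hα⟩ := IsCyclic.exists_ofOrder_eq_natCard (α := MulAut Q)
  obtain ⟨n, hn⟩ := MonoidHom.range_eq_top.1 hrange α
  refine h.not_four_dvd_orderOf (n : G) ?_
  rw [Subgroup.orderOf_coe, ← hcard, ← hα, ← hn]
  exact orderOf_map_dvd _ n

theorem Hyp.fixed_fifteen_empty (h : Hyp G) {N : Subgroup G} (hN : ¬ 5 ∣ Nat.card N) {x : G}
    (hx : orderOf x = 5) (ω : G ⧸ N) : x • ω ≠ ω := by
  induction ω using QuotientGroup.induction_on with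
  | H g =>
  intro e
  rw [MulAction.Quotient.smul_mk, QuotientGroup.eq] at e
  have hy : g⁻¹ * x⁻¹ * g⁻¹⁻¹ ∈ N := by simpa [mul_assoc] using e
  have := Subgroup.orderOf_dvd_natCard N hy
  rw [conj_orderOf, orderOf_inv, hx] at this
  exact hN this

/-- The normaliser of the Sylow two-subgroup does not have order 280. -/
theorem Hyp.ne_280 (h : Hyp G) (P : Sylow 2 G) :
    Nat.card (normalizer ((P : Subgroup G) : Set G)) ≠ 280 := by
  intro h280
  classical
  haveI : Fact (Nat.Prime 5) := ⟨by norm_num⟩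
  set S := (P : Subgroup G)
  have hS8 : Nat.card S = 8 := h.card_sylow_two P
  obtain ⟨⟨x, hxN⟩, hx⟩ := exists_prime_orderOf_dvd_card' (G := normalizer (S : Set G)) 5
    (by rw [h280]; norm_num)
  rw [← Subgroup.orderOf_coe] at hx
  change orderOf x = 5 at hx
  have hfixall : ∀ t ∈ S, Commute x t := by
    by_contra hcon
    push Not at hcon
    obtain ⟨t, ht, htx⟩ := hcon
    have ht1 : t ≠ 1 := fun e => htx (e ▸ Commute.one_right x)
    set T : Set G := (S : Set G) \ {1}
    have hT : T.ncard = 7 := by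
      rw [Set.ncard_diff_singleton_of_mem (one_mem S), ← Nat.card_coe_set_eq]
      show Nat.card S - 1 = 7
      rw [hS8]
    let O : G → Set G := fun w => Set.range fun n : zpowers x => (n : G) * w * (n : G)⁻¹
    have hOT : ∀ w ∈ T, O w ⊆ T := by
      rintro w ⟨hw, hw1⟩ _ ⟨n, rfl⟩
      exact ⟨(Subgroup.mem_normalizer_iff.1 (zpowers_le.2 hxN n.2) w).1 hw,
        fun e => hw1 (conj_eq_one_iff.1 e)⟩
    have hsz : ∀ w, (Commute x w ∧ O w = {w}) ∨ (¬ Commute x w ∧ (O w).ncard = 5) := by
      intro w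
      by_cases hc : Commute x w
      · refine Or.inl ⟨hc, ?_⟩
        refine Set.eq_singleton_iff_unique_mem.2 ⟨⟨⟨1, one_mem _⟩, by simp⟩, ?_⟩
        rintro _ ⟨n, rfl⟩
        obtain ⟨i, hi⟩ := mem_zpowers_iff.1 n.2
        show (n : G) * w * (n : G)⁻¹ = w
        rw [← hi, (hc.zpow_left i).eq, mul_inv_cancel_right]
      · refine Or.inr ⟨hc, ?_⟩
        have hm := card_range_conj (zpowers x) w
        have hK : zpowers x ⊓ centralizer ({w} : Set G) = ⊥ := by
          have hd := Subgroup.card_dvd_of_le (show zpowers x ⊓ centralizer ({w} : Set G) ≤ zpowers x from inf_le_left)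
          rw [Nat.card_zpowers, hx] at hd
          rcases (Nat.dvd_prime (by norm_num : Nat.Prime 5)).1 hd with e | e
          · exact Subgroup.card_eq_one.1 e
          · exfalso
            have heq : zpowers x ⊓ centralizer ({w} : Set G) = zpowers x :=
              Subgroup.eq_of_le_of_card_ge inf_le_left (by rw [e, Nat.card_zpowers, hx])
            exact hc (mem_centralizer_singleton_iff.1 (inf_eq_left.1 heq (mem_zpowers x)))
        rw [hK, Subgroup.card_bot, mul_one, Nat.card_zpowers, hx] at hm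
        exact hm
    have htT : t ∈ T := ⟨ht, ht1⟩
    have h5 : (O t).ncard = 5 := by
      rcases hsz t with ⟨hc, -⟩ | ⟨-, e⟩
      · exact absurd hc htx
      · exact e
    have hdiff : (T \ O t).ncard = 2 := by
      rw [Set.ncard_diff (hOT t htT) (Set.finite_range _), hT, h5]
    obtain ⟨u, v, huv, heq⟩ := Set.ncard_eq_two.1 hdiff
    have hfix : ∀ w ∈ T \ O t, Commute x w := by
      intro w hw
      rcases hsz w with ⟨hc, -⟩ | ⟨-, e⟩
      · exact hc
      exfalso
      have hd : Disjoint (O w) (O t) := by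
        rw [Set.disjoint_left]
        rintro _ ⟨n, rfl⟩ ⟨m, hm⟩
        refine hw.2 ⟨⟨(n : G)⁻¹ * m, mul_mem (inv_mem n.2) m.2⟩, ?_⟩
        show (n : G)⁻¹ * m * t * ((n : G)⁻¹ * m)⁻¹ = w
        calc _ = (n : G)⁻¹ * ((m : G) * t * (m : G)⁻¹) * n := by group
          _ = (n : G)⁻¹ * ((n : G) * w * (n : G)⁻¹) * n := by rw [show (m : G) * t * (m : G)⁻¹ = _ from hm]
          _ = w := by group
      have h10 := Set.ncard_union_eq hd (Set.finite_range _) (Set.finite_range _)
      have hle := Set.ncard_le_ncard (Set.union_subset (hOT w hw.1) (hOT t htT)) (Set.toFinite _)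
      omega
    have hu : u ∈ T \ O t := heq ▸ Set.mem_insert u {v}
    have hv : v ∈ T \ O t := heq ▸ Set.mem_insert_of_mem u rfl
    have huvT : u * v ∈ T := ⟨mul_mem hu.1.1 hv.1.1, fun e => huv (by
      rw [mul_eq_one_iff_eq_inv.1 e]; exact inv_eq_of_mul_eq_one_right (h.exponent_two P v hv.1.1))⟩
    have hmem : u * v ∈ T \ O t := by
      refine ⟨huvT, fun hO => htx ?_⟩
      obtain ⟨n, hn⟩ := hO
      obtain ⟨i, hi⟩ := mem_zpowers_iff.1 n.2
      change (n : G) * t * (n : G)⁻¹ = u * v at hn
      have hc : Commute (n : G) (u * v) := hi ▸ ((hfix u hu).mul_right (hfix v hv)).zpow_left i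
      have e : t = u * v := by
        calc t = (n : G)⁻¹ * ((n : G) * t * (n : G)⁻¹) * n := by group
          _ = (n : G)⁻¹ * (u * v * n) := by rw [hn, mul_assoc]
          _ = u * v := by rw [← hc.eq, inv_mul_cancel_left]
      rw [e]
      exact (hfix u hu).mul_right (hfix v hv)
    rw [heq] at hmem
    rcases hmem with e | e
    · exact hv.1.2 (mul_eq_left.1 e)
    · exact hu.1.2 (mul_eq_right.1 e)
  have hxC : x ∈ centralizer (S : Set G) := mem_centralizer_iff.2 fun t ht => (hfixall t ht).eq.symm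
  have := Subgroup.orderOf_dvd_natCard _ hxC
  rw [hx, h.card_centralizer_two P] at this
  omega

/-- The normaliser of the Sylow two-subgroup does not have order 168. -/
theorem Hyp.ne_168 (h : Hyp G) (P : Sylow 2 G) :
    Nat.card (normalizer ((P : Subgroup G) : Set G)) ≠ 168 := by
  intro h168
  classical
  haveI := h.simple
  set N := normalizer ((P : Subgroup G) : Set G)
  have hi : N.index = 15 := by
    have := N.card_mul_index; rw [h168, h.card] at this; omega
  haveI : Fact (Nat.Prime 5) := ⟨by norm_num⟩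
  obtain ⟨x, hx⟩ := exists_prime_orderOf_dvd_card' (G := G) 5 (by rw [h.card]; norm_num)
  have hfree : ∀ ω : G ⧸ N, x • ω ≠ ω := h.fixed_fifteen_empty (by rw [h168]; norm_num) hx
  have hx5 : x ^ 5 = 1 := by rw [← hx, pow_orderOf_eq_one]
  rcases h.five_centralizer hx with ⟨a, ha, hxa⟩ | ⟨hC, -⟩
  · refine h.no_fifteen (p := 5) (k := 0) hi ha hxa.eq hx5 ?_ (Or.inr ⟨rfl, rfl⟩)
    exact Nat.card_eq_zero.2 (Or.inl ⟨fun ω => hfree ω.1 ω.2.2⟩)
  haveI : Fact (Nat.Prime 7) := ⟨by norm_num⟩
  obtain ⟨⟨w, hwC⟩, hw⟩ := exists_prime_orderOf_dvd_card' (G := centralizer (zpowers x : Set G)) 7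
    (by rw [hC]; norm_num)
  rw [← Subgroup.orderOf_coe] at hw
  change orderOf w = 7 at hw
  have hxw : x * w = w * x := mem_centralizer_iff.1 hwC x (mem_zpowers x)
  have hw7 : w ^ 7 = 1 := by rw [← hw, pow_orderOf_eq_one]
  have h1 := fixed_modEq (Ω := G ⧸ N) hw7 (y := 1) (by simp)
  have h2 := fixed_modEq (Ω := G ⧸ N) hx5 hxw
  have e0 : Nat.card {ω : G ⧸ N // w • ω = ω ∧ x • ω = ω} = 0 :=
    Nat.card_eq_zero.2 (Or.inl ⟨fun ω => hfree ω.1 ω.2.2⟩)
  have e1 : Nat.card (MulAction.fixedBy (G ⧸ N) (1 : G)) = 15 := by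
    rw [MulAction.fixedBy_one_eq_univ, Nat.card_coe_set_eq, Set.ncard_univ, ← Subgroup.index_eq_card, hi]
  have e2 : Nat.card {ω : G ⧸ N // (1 : G) • ω = ω ∧ w • ω = ω} =
      Nat.card (MulAction.fixedBy (G ⧸ N) w) :=
    Nat.card_congr (Equiv.subtypeEquivRight fun ω => by simp [MulAction.mem_fixedBy])
  rw [e1, e2] at h1
  rw [e0] at h2
  have hle : Nat.card (MulAction.fixedBy (G ⧸ N) w) ≤ 15 := by
    rw [← hi, Subgroup.index_eq_card]
    exact Nat.card_le_card_of_injective _ Subtype.val_injective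
  have hall : Nat.card (MulAction.fixedBy (G ⧸ N) w) = 15 := by
    unfold Nat.ModEq at h1 h2
    omega
  have hset : MulAction.fixedBy (G ⧸ N) w = Set.univ := by
    refine Set.eq_of_subset_of_ncard_le (Set.subset_univ _) ?_ Set.finite_univ
    rw [Set.ncard_univ, ← Subgroup.index_eq_card, hi, ← Nat.card_coe_set_eq, hall]
  have hker : w ∈ N.normalCore := by
    rw [Subgroup.normalCore_eq_ker]
    exact MonoidHom.mem_ker.2 (Equiv.ext fun ω => (Set.eq_univ_iff_forall.1 hset ω :))
  rcases IsSimpleGroup.eq_bot_or_eq_top_of_normal N.normalCore inferInstance with e | e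
  · rw [e, mem_bot] at hker
    rw [hker, orderOf_one] at hw
    omega
  · have : N = ⊤ := top_unique (e ▸ N.normalCore_le)
    rw [this, index_top] at hi
    omega

theorem Hyp.card_centralizer_eq (h : Hyp G) {a b : G} (ha : orderOf a = 2) (hb : orderOf b = 2) :
    Nat.card (centralizer ({a} : Set G)) = Nat.card (centralizer ({b} : Set G)) := by
  obtain ⟨g, hg⟩ := isConj_iff.1 (h.isConj_involution ha hb)
  refine Nat.card_congr (Equiv.ofBijective (fun c : centralizer ({a} : Set G) =>
    (⟨g * c * g⁻¹, mem_centralizer_singleton_iff.2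
      (hg ▸ (conj_commute g (mem_centralizer_singleton_iff.1 c.2)).eq)⟩ :
      centralizer ({b} : Set G))) ⟨fun c c' e => ?_, fun c => ?_⟩)
  · exact Subtype.ext ((MulAut.conj g).injective (congrArg Subtype.val e))
  · have hc' := conj_commute g⁻¹ (mem_centralizer_singleton_iff.1 c.2 : Commute _ _)
    refine ⟨⟨g⁻¹ * c * g, mem_centralizer_singleton_iff.2 ?_⟩, Subtype.ext (by simp [mul_assoc])⟩
    have ha' : g⁻¹ * b * g = a := by rw [← hg]; group
    simpa [← ha', mul_assoc] using hc'.eq

/-- The normaliser of the Sylow two-subgroup does not have order 56. -/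
theorem Hyp.ne_56 (h : Hyp G) (P : Sylow 2 G) :
    Nat.card (normalizer ((P : Subgroup G) : Set G)) ≠ 56 := by
  intro h56
  classical
  haveI := h.simple
  haveI : Fact (Nat.Prime 2) := ⟨Nat.prime_two⟩
  haveI : Fact (Nat.Prime 5) := ⟨by norm_num⟩
  haveI : Fact (Nat.Prime 7) := ⟨by norm_num⟩
  set S := (P : Subgroup G)
  set N := normalizer (S : Set G)
  have hS8 : Nat.card S = 8 := h.card_sylow_two P
  have hi : N.index = 45 := by
    have := N.card_mul_index; rw [h56, h.card] at this; omega
  obtain ⟨⟨t, htS⟩, ht⟩ := exists_prime_orderOf_dvd_card' (G := S) 2 (by rw [hS8]; norm_num)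
  rw [← Subgroup.orderOf_coe] at ht
  change orderOf t = 2 at ht
  have ht1 : t ≠ 1 := fun e => by rw [e, orderOf_one] at ht; omega
  set C := centralizer ({t} : Set G)
  have hSC : S ≤ C := fun a ha => mem_centralizer_singleton_iff.2 (h.commute_two P ha htS).eq
  have hCN : N ⊓ C = S := by
    refine (Subgroup.eq_of_le_of_card_ge (le_inf le_normalizer hSC) ?_).symm
    have := h.orbit_seven P htS ht1
    rw [h56] at this
    rw [hS8]
    change 7 * Nat.card (N ⊓ C : Subgroup G) = 56 at this
    show Nat.card (N ⊓ C : Subgroup G) ≤ 8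
    omega
  obtain ⟨m, hm⟩ : 8 ∣ Nat.card C := hS8 ▸ Subgroup.card_dvd_of_le hSC
  have hm315 : m ∣ 315 :=
    Nat.dvd_of_mul_dvd_mul_left (by norm_num : 0 < 8) (by rw [← hm]; exact h.card_dvd C)
  have hmle : 8 * m ≤ 315 := hm ▸ h.card_centralizer_le ht1
  -- the Sylow subgroups containing `t`
  have hf : Nat.card (MulAction.fixedBy (G ⧸ N) t) = m := by
    set K := N.subgroupOf C
    have hK : Nat.card K = 8 := by
      rw [Nat.card_congr (K.equivMapOfInjective _ C.subtype_injective).toEquiv,
        Subgroup.subgroupOf_map_subtype, hCN, hS8]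
    have hKi : K.index = m := by
      have := K.card_mul_index
      rw [hK, hm] at this
      omega
    rw [← hKi, Subgroup.index_eq_card]
    refine (Nat.card_congr (Equiv.ofBijective (fun q : C ⧸ K =>
      (⟨Quotient.liftOn' q (fun c : C => (QuotientGroup.mk (c : G) : G ⧸ N)) fun c d hcd => ?_, ?_⟩ :
        MulAction.fixedBy (G ⧸ N) t)) ⟨?_, ?_⟩)).symm
    · rw [QuotientGroup.leftRel_apply, Subgroup.mem_subgroupOf] at hcd
      exact QuotientGroup.eq.2 hcd
    · induction q using Quotient.inductionOn' with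
      | h c =>
        show t • (QuotientGroup.mk (c : G) : G ⧸ N) = QuotientGroup.mk (c : G)
        rw [MulAction.Quotient.smul_mk, QuotientGroup.eq, smul_eq_mul,
          ← mem_centralizer_singleton_iff.1 c.2, mul_inv_rev, mul_assoc, inv_mul_cancel, mul_one]
        exact inv_mem (le_normalizer htS)
    · intro q q'
      induction q using QuotientGroup.induction_on with
      | H c =>
      induction q' using QuotientGroup.induction_on with
      | H d =>
      intro e
      rw [QuotientGroup.eq, Subgroup.mem_subgroupOf]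
      exact QuotientGroup.eq.1 (congrArg Subtype.val e)
    · rintro ⟨ω, hω⟩
      induction ω using QuotientGroup.induction_on with
      | H g =>
      rw [MulAction.mem_fixedBy, MulAction.Quotient.smul_mk, QuotientGroup.eq] at hω
      have htN : g⁻¹ * t⁻¹ * g ∈ N := by simpa [mul_assoc] using hω
      have htN' : g⁻¹ * t * g ∈ N := by rwa [inv_self ht] at htN
      have hoS : g⁻¹ * t * g ∈ S := h.eq_sylow P htN' (by
        calc g⁻¹ * t * g * (g⁻¹ * t * g) = g⁻¹ * (t * t) * g := by group
          _ = 1 := by rw [mul_self ht]; group)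
      have hne : g⁻¹ * t * g ≠ 1 := fun e => ht1 (by
        calc t = g * (g⁻¹ * t * g) * g⁻¹ := by group
          _ = 1 := by rw [e]; group)
      obtain ⟨n, hn, hnt⟩ := h.transitive P htS ht1 hoS hne
      have hc : g * n ∈ C := mem_centralizer_singleton_iff.2 (by
        calc g * n * t = g * (n * t * n⁻¹) * n := by group
          _ = g * (g⁻¹ * t * g) * n := by rw [hnt]
          _ = _ := by group)
      refine ⟨QuotientGroup.mk ⟨g * n, hc⟩, Subtype.ext (QuotientGroup.eq.2 ?_)⟩
      show ((g * n)⁻¹ * g : G) ∈ N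
      rw [mul_inv_rev, mul_assoc, inv_mul_cancel, mul_one]
      exact inv_mem hn
  haveI := Fintype.ofFinite (G ⧸ N)
  have h4 := four_dvd_moved (MulAction.toPerm t : Equiv.Perm (G ⧸ N))
    (Equiv.ext fun ω => by
      show t • t • ω = ω
      rw [← mul_smul, mul_self ht, one_smul])
    (sign_eq_one h.not_comm t)
  have e : Function.fixedPoints (MulAction.toPerm t : Equiv.Perm (G ⧸ N)) =
      MulAction.fixedBy (G ⧸ N) t := rfl
  rw [e, ← Nat.card_coe_set_eq, ← Nat.card_eq_fintype_card, ← Subgroup.index_eq_card, hi, hf] at h4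
  have hm4 : m = 1 ∨ m = 5 ∨ m = 9 ∨ m = 21 := by
    have key : ∀ m ∈ Nat.divisors 315, 8 * m ≤ 315 → 4 ∣ 45 - m → m = 1 ∨ m = 5 ∨ m = 9 ∨ m = 21 := by
      decide +kernel
    exact key m (Nat.mem_divisors.2 ⟨hm315, by norm_num⟩) hmle h4
  have hCm : ∀ a : G, orderOf a = 2 → Nat.card (centralizer ({a} : Set G)) = 8 * m := fun a ha => by
    rw [h.card_centralizer_eq ha ht]; exact hm
  -- some involution is centralised by an element of order five
  by_cases hfive : ∃ x a : G, orderOf x = 5 ∧ orderOf a = 2 ∧ Commute x a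
  · obtain ⟨x, a, hx, ha, hxa⟩ := hfive
    have h5m : 5 ∣ 8 * m := by
      rw [← hCm a ha, ← hx]
      exact Subgroup.orderOf_dvd_natCard _ (mem_centralizer_singleton_iff.2 hxa.eq)
    have hm5 : m = 5 := by omega
    subst hm5
    have hex : ∀ u : G, orderOf u = 2 → ∃ x : G, orderOf x = 5 ∧ Commute u x := fun u hu => by
      obtain ⟨⟨x, hxC⟩, hx⟩ := exists_prime_orderOf_dvd_card' (G := centralizer ({u} : Set G)) 5
        (by rw [hCm u hu]; norm_num)
      rw [← Subgroup.orderOf_coe] at hx
      exact ⟨x, hx, (mem_centralizer_singleton_iff.1 hxC).symm⟩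
    -- the Sylow five-subgroup of an involution centraliser is unique
    have huniq : ∀ u x y : G, orderOf u = 2 → orderOf x = 5 → orderOf y = 5 → Commute u x →
        Commute u y → zpowers y = zpowers x := by
      intro u x y hu hx hy hux huy
      set Cu := centralizer ({u} : Set G)
      have hCu : Nat.card Cu = 40 := hCm u hu
      haveI : Subsingleton (Sylow 5 Cu) := by
        refine (Nat.card_eq_one_iff_unique.1 ?_).1
        obtain ⟨R⟩ : Nonempty (Sylow 5 Cu) := inferInstance
        have h1 := card_sylow_modEq_one 5 Cu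
        have h2 : Nat.card (Sylow 5 Cu) ∣ 40 := hCu ▸ R.card_eq_index_normalizer ▸ index_dvd_card _
        have key : ∀ n ∈ Nat.divisors 40, n % 5 = 1 → n = 1 := by decide +kernel
        exact key _ (Nat.mem_divisors.2 ⟨h2, by norm_num⟩) h1
      obtain ⟨R⟩ : Nonempty (Sylow 5 Cu) := inferInstance
      have hin : ∀ w : G, orderOf w = 5 → Commute u w →
          zpowers w = (R : Subgroup Cu).map Cu.subtype := by
        intro w hw huw
        have hwC : w ∈ Cu := mem_centralizer_singleton_iff.2 huw.eq.symm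
        have hp : IsPGroup 5 (zpowers (⟨w, hwC⟩ : Cu)) := IsPGroup.of_card (n := 1)
          (by rw [Nat.card_zpowers, Subgroup.orderOf_mk, hw, pow_one])
        obtain ⟨R2, hR2⟩ := hp.exists_le_sylow
        rw [Subsingleton.elim R2 R] at hR2
        refine Subgroup.eq_of_le_of_card_ge
          (zpowers_le.2 ⟨⟨w, hwC⟩, hR2 (mem_zpowers _), rfl⟩) ?_
        rw [Subgroup.card_map_of_injective Cu.subtype_injective, Nat.card_zpowers, hw,
          H30.card_sylow_subgroup R (a := 1) (m := 8) (by rw [hCu]; norm_num) (by norm_num)]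
        norm_num
      rw [hin y hy huy, hin x hx hux]
    -- a hyperplane of `S` centralises such a subgroup
    have hpair : ∀ x : G, orderOf x = 5 → ∀ u a b : G, orderOf u = 2 → Commute u x → u ∈ S → a ∈ S →
        b ∈ S → ¬ Commute a x → ¬ Commute b x → Commute (a * b) x := by
      intro x hx u a b hu hux huS ha hb hax hbx
      have hinv : ∀ c ∈ S, ¬ Commute c x → c * x * c⁻¹ = x⁻¹ := by
        intro c hc hcx
        have hcc := h.exponent_two P c hc
        have hcu : Commute c u := h.commute_two P hc huS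
        have hy : Commute u (c * x * c⁻¹) := (hcu.symm.mul_right hux).mul_right hcu.symm.inv_right
        have hz := huniq u x (c * x * c⁻¹) hu hx (by rw [conj_orderOf, hx]) hux hy
        obtain ⟨i, hi⟩ := mem_zpowers_iff.1 (hz ▸ mem_zpowers (c * x * c⁻¹))
        have h2 : x = x ^ (i * i) := by
          calc x = c * (c * x * c⁻¹) * c⁻¹ := by
                rw [show c * (c * x * c⁻¹) * c⁻¹ = (c * c) * x * (c * c)⁻¹ by group, hcc]; group
            _ = c * x ^ i * c⁻¹ := by rw [hi]
            _ = (c * x * c⁻¹) ^ i := by rw [conj_zpow]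
            _ = x ^ (i * i) := by rw [← hi, ← zpow_mul]
        have h3 : (5 : ℤ) ∣ i * i - 1 := by
          have : x ^ (i * i - 1) = 1 := by rw [zpow_sub_one, ← h2, mul_inv_cancel]
          have := orderOf_dvd_iff_zpow_eq_one.2 this
          rwa [hx] at this
        have h5 : x ^ (5 : ℤ) = 1 := by
          rw [show (5 : ℤ) = ((5 : ℕ) : ℤ) from rfl, zpow_natCast, ← hx, pow_orderOf_eq_one]
        have hir : x ^ i = x ^ (i % 5) := by
          conv_lhs => rw [← Int.emod_add_mul_ediv i 5, zpow_add, zpow_mul, h5, one_zpow, mul_one]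
        have hi4 : i % 5 = 1 ∨ i % 5 = 4 := by
          have hsq : (i * i) % 5 = 1 := by omega
          rw [Int.mul_emod] at hsq
          rcases (by omega : i % 5 = 0 ∨ i % 5 = 1 ∨ i % 5 = 2 ∨ i % 5 = 3 ∨ i % 5 = 4) with
            e | e | e | e | e <;> first
              | exact Or.inl e
              | exact Or.inr e
              | (rw [e] at hsq; norm_num at hsq)
        rcases hi4 with e | e
        · exact absurd (mul_inv_eq_iff_eq_mul.1 (by rw [← hi, hir, e, zpow_one])) hcx
        · rw [← hi, hir, e, eq_inv_iff_mul_eq_one, ← zpow_add_one]; exact h5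
      have h1 := hinv a ha hax
      have h2 := hinv b hb hbx
      have e : a * b * x * (a * b)⁻¹ = x := by
        calc a * b * x * (a * b)⁻¹ = a * (b * x * b⁻¹) * a⁻¹ := by group
          _ = (a * x * a⁻¹)⁻¹ := by rw [h2]; group
          _ = x := by rw [h1, inv_inv]
      exact mul_inv_eq_iff_eq_mul.1 e
    obtain ⟨x, hx, htx⟩ := hex t ht
    obtain ⟨s, hs, hsx⟩ : ∃ s ∈ S, ¬ Commute s x := by
      by_contra hc
      push Not at hc
      exact h.no_five hx hS8 fun s hs => mem_centralizer_singleton_iff.2 (hc s hs).eq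
    have hord : ∀ {u : G}, u ∈ S → u ≠ 1 → orderOf u = 2 := fun {u} hu hu1 =>
      orderOf_eq_prime (by rw [sq, h.exponent_two P u hu]) hu1
    obtain ⟨r, hr, hr'⟩ : ∃ r ∈ S, r ∉ ({1, t, s, s * t} : Set G) := by
      by_contra hc
      push Not at hc
      have h1 := Set.ncard_le_ncard (show (S : Set G) ⊆ {1, t, s, s * t} from hc) (Set.toFinite _)
      have h4' : ({1, t, s, s * t} : Set G).ncard ≤ 4 := by
        refine (Set.ncard_insert_le _ _).trans (Nat.add_le_add_right ((Set.ncard_insert_le _ _).trans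
          (Nat.add_le_add_right ((Set.ncard_insert_le _ _).trans ?_) 1)) 1)
        simp
      rw [← Nat.card_coe_set_eq] at h1
      change Nat.card S ≤ _ at h1
      omega
    simp only [Set.mem_insert_iff, Set.mem_singleton_iff, not_or] at hr'
    obtain ⟨u, hu, hu1, hut, hux⟩ : ∃ u ∈ S, u ≠ 1 ∧ u ≠ t ∧ Commute u x := by
      by_cases hrx : Commute r x
      · exact ⟨r, hr, hr'.1, hr'.2.1, hrx⟩
      · refine ⟨s * r, mul_mem hs hr, fun e => hr'.2.2.1 ?_, fun e => hr'.2.2.2 ?_,
          hpair x hx t s r ht htx htS hs hr hsx hrx⟩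
        · rw [← inv_eq_of_mul_eq_one_right e]
          exact inv_eq_of_mul_eq_one_right (h.exponent_two P s hs)
        · rw [← e, ← mul_assoc, h.exponent_two P s hs, one_mul]
    have hu2 := hord hu hu1
    have hs1 : s ≠ 1 := fun e => hsx (e ▸ Commute.one_left x)
    obtain ⟨y, hy, hsy⟩ := hex s (hord hs hs1)
    have hcommon : ∃ a ∈ S, orderOf a = 2 ∧ Commute a x ∧ Commute a y := by
      by_cases h1 : Commute t y
      · exact ⟨t, htS, ht, htx, h1⟩
      by_cases h2 : Commute u y
      · exact ⟨u, hu, hu2, hux, h2⟩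
      refine ⟨t * u, mul_mem htS hu, hord (mul_mem htS hu) fun e => hut ?_, htx.mul_left hux,
        hpair y hy s t u (hord hs hs1) hsy hs htS hu h1 h2⟩
      rw [← inv_eq_of_mul_eq_one_right e]
      exact inv_eq_of_mul_eq_one_right (h.exponent_two P t htS)
    obtain ⟨a, -, ha, hax, hay⟩ := hcommon
    have hxy := huniq a x y ha hx hy hax hay
    obtain ⟨i, hi⟩ := mem_zpowers_iff.1 (hxy.symm ▸ mem_zpowers x)
    exact hsx (hi ▸ hsy.zpow_right i)
  push Not at hfive
  have h5m : ¬ 5 ∣ m := fun hd => by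
    obtain ⟨⟨x, hxC⟩, hx⟩ := exists_prime_orderOf_dvd_card' (G := C) 5 (hm ▸ hd.mul_left 8)
    rw [← Subgroup.orderOf_coe] at hx
    exact hfive x t hx ht (mem_centralizer_singleton_iff.1 hxC)
  -- no element of order seven centralises an involution
  have h7m : ¬ 7 ∣ m := by
    intro hd
    have hm21 : m = 21 := by omega
    subst hm21
    obtain ⟨R⟩ : Nonempty (Sylow 7 C) := inferInstance
    have hR7 : Nat.card (R : Subgroup C) = 7 := by
      rw [H30.card_sylow_subgroup R (a := 1) (m := 24) (by rw [hm]; norm_num) (by norm_num)]; norm_num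
    set NR := normalizer ((R : Subgroup C) : Set C)
    have htNR : (⟨t, mem_centralizer_singleton_iff.2 rfl⟩ : C) ∈ NR :=
      centralizer_le_normalizer _ (mem_centralizer_iff.2 fun r _ =>
        Subtype.ext (mem_centralizer_singleton_iff.1 r.2))
    have h14 : 14 ∣ Nat.card NR := Nat.Coprime.mul_dvd_of_dvd_of_dvd (by norm_num : Nat.Coprime 2 7)
      (by
        have h2 := Subgroup.orderOf_dvd_natCard NR htNR
        rwa [Subgroup.orderOf_mk, ht] at h2)
      (hR7 ▸ Subgroup.card_dvd_of_le le_normalizer)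
    have h12 : NR.index ∣ 12 := by
      have hcm := NR.card_mul_index
      rw [hm] at hcm
      obtain ⟨l, hl⟩ := h14
      rw [hl] at hcm
      exact ⟨l, by nlinarith⟩
    have h1 := card_sylow_modEq_one 7 C
    rw [R.card_eq_index_normalizer] at h1
    have hidx : NR.index = 1 := by
      have key : ∀ n ∈ Nat.divisors 12, n % 7 = 1 → n = 1 := by decide +kernel
      exact key _ (Nat.mem_divisors.2 ⟨h12, by norm_num⟩) h1
    obtain ⟨⟨w, hwR⟩, hw⟩ := exists_prime_orderOf_dvd_card' (G := (R : Subgroup C)) 7 (by rw [hR7])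
    rw [← Subgroup.orderOf_coe] at hw
    change orderOf w = 7 at hw
    have hwR' : zpowers w = (R : Subgroup C) := Subgroup.eq_of_le_of_card_ge (zpowers_le.2 hwR)
      (by rw [hR7, Nat.card_zpowers, hw])
    have hCle : C ≤ normalizer (zpowers (w : G) : Set G) := by
      have hmap : (zpowers w).map C.subtype = zpowers (w : G) := MonoidHom.map_zpowers _ _
      have htop : normalizer ((zpowers w : Subgroup C) : Set C) = ⊤ := by
        rw [hwR']; exact index_eq_one.1 hidx
      intro c hc
      rw [← hmap]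
      refine Subgroup.mem_normalizer_iff.2 fun v => ⟨?_, ?_⟩
      · rintro ⟨v', hv', rfl⟩
        exact ⟨⟨c, hc⟩ * v' * ⟨c, hc⟩⁻¹,
          (Subgroup.mem_normalizer_iff.1 (htop ▸ mem_top (⟨c, hc⟩ : C)) v').1 hv', rfl⟩
      · rintro ⟨v', hv', e⟩
        refine ⟨⟨c, hc⟩⁻¹ * v' * ⟨c, hc⟩⁻¹⁻¹,
          (Subgroup.mem_normalizer_iff.1 (htop ▸ mem_top (⟨c, hc⟩⁻¹ : C)) v').1 hv', ?_⟩
        change (v' : G) = c * v * c⁻¹ at e
        show c⁻¹ * (v' : G) * c⁻¹⁻¹ = v
        rw [e]; group
    exact h.no_seven_involution (x := (w : G)) (by rw [Subgroup.orderOf_coe, hw]) ht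
      (mem_centralizer_singleton_iff.1 w.2)
      ((show 8 ∣ Nat.card C from ⟨21, hm⟩).trans (Subgroup.card_dvd_of_le hCle))
  -- the centraliser of an element of order five has order 35
  obtain ⟨x, hx⟩ := exists_prime_orderOf_dvd_card' (G := G) 5 (by rw [h.card]; norm_num)
  obtain ⟨a, ha, hxa⟩ | ⟨hC35, hN70⟩ := h.five_centralizer hx
  · exact hfive x a hx ha hxa
  rcases (by omega : m = 1 ∨ m = 9) with rfl | rfl
  · -- the two-subgroups are self-centralising
    have hC8 : ∀ u : G, orderOf u = 2 → IsMulCommutative (centralizer ({u} : Set G)) ∧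
        ∀ c ∈ centralizer ({u} : Set G), c ^ 2 = 1 := by
      intro u hu
      obtain ⟨R, hR⟩ := (IsPGroup.of_card (p := 2) (n := 3)
        (G := centralizer ({u} : Set G)) (by rw [hCm u hu]; norm_num)).exists_le_sylow
      refine ⟨⟨⟨fun c d => Subtype.ext (h.commute_two R (hR c.2) (hR d.2)).eq⟩⟩, fun c hc => ?_⟩
      rw [sq]; exact h.exponent_two R c (hR hc)
    have hnc : ¬ IsCyclic S := fun hcyc => by
      obtain ⟨g, hg⟩ := IsCyclic.exists_ofOrder_eq_natCard (α := S)
      rw [hS8] at hg
      have := Nat.le_of_dvd two_pos (orderOf_dvd_of_pow_eq_one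
        (show g ^ 2 = 1 from Subtype.ext (by simpa [sq] using h.exponent_two P g g.2)))
      omega
    have hnn : ¬ S.Normal := fun hn => by
      rcases IsSimpleGroup.eq_bot_or_eq_top_of_normal S hn with e | e
      · rw [e, Subgroup.card_bot] at hS8; omega
      · rw [e, Subgroup.card_top, h.card] at hS8; omega
    obtain ⟨F, iF, iFF, hFc, ⟨e⟩⟩ := Cfsg.Agent.S1230.result P hnc hnn hC8
    have hd := Subgroup.card_quotient_dvd_card
      (center (Matrix.SpecialLinearGroup (Fin 2) F))
    rw [Cfsg.Agent.H6.card_sl2 rfl, hFc, hS8] at hd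
    have hG : Nat.card (Matrix.SpecialLinearGroup (Fin 2) F ⧸
        center (Matrix.SpecialLinearGroup (Fin 2) F)) = 2520 :=
      (Nat.card_congr e.toEquiv).symm.trans h.card
    rw [hG] at hd
    norm_num at hd
  · -- all thirty-five involutions normalise `⟨x⟩`
    set Q := zpowers x
    set NQ := normalizer (Q : Set G)
    set CQ := centralizer (Q : Set G)
    obtain ⟨⟨w, hwC⟩, hw⟩ := exists_prime_orderOf_dvd_card' (G := CQ) 7 (by rw [hC35]; norm_num)
    rw [← Subgroup.orderOf_coe] at hw
    change orderOf w = 7 at hw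
    have hxw : Commute x w := mem_centralizer_iff.1 hwC x (mem_zpowers x)
    obtain ⟨⟨a, haN⟩, ha⟩ := exists_prime_orderOf_dvd_card' (G := NQ) 2 (by rw [hN70]; norm_num)
    rw [← Subgroup.orderOf_coe] at ha
    change orderOf a = 2 at ha
    have haa := mul_self ha
    have hcase : ∀ y : G, ∀ p : ℕ, p.Prime → orderOf y = p → a * y * a⁻¹ ∈ zpowers y →
        ¬ Commute a y → a * y * a⁻¹ = y⁻¹ := by
      intro y p hp hy hmem hnc
      obtain ⟨i, hi⟩ := mem_zpowers_iff.1 hmem
      have h2 : x = x := rfl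
      have h3 : y ^ ((i - 1) * (i + 1)) = 1 := by
        have e1 : y = y ^ (i * i) := by
          calc y = a * (a * y * a⁻¹) * a⁻¹ := by
                rw [show a * (a * y * a⁻¹) * a⁻¹ = (a * a) * y * (a * a)⁻¹ by group, haa]; group
            _ = a * y ^ i * a⁻¹ := by rw [hi]
            _ = (a * y * a⁻¹) ^ i := by rw [conj_zpow]
            _ = y ^ (i * i) := by rw [← hi, ← zpow_mul]
        rw [show (i - 1) * (i + 1) = i * i - 1 by ring, zpow_sub_one, ← e1, mul_inv_cancel]
      have h4 := orderOf_dvd_iff_zpow_eq_one.2 h3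
      rw [hy] at h4
      rcases (Nat.prime_iff_prime_int.1 hp).dvd_or_dvd h4 with h5 | h5
      · exfalso
        refine hnc ?_
        rw [← hy] at h5
        have h6 : y ^ (i - 1) = 1 := orderOf_dvd_iff_zpow_eq_one.1 h5
        rw [zpow_sub_one, mul_inv_eq_one, hi] at h6
        exact mul_inv_eq_iff_eq_mul.1 h6
      · rw [← hy] at h5
        have h6 : y ^ (i + 1) = 1 := orderOf_dvd_iff_zpow_eq_one.1 h5
        rw [zpow_add_one, hi, mul_eq_one_iff_eq_inv] at h6
        exact h6
    have hax : a * x * a⁻¹ = x⁻¹ := hcase x 5 (by norm_num) hx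
      ((Subgroup.mem_normalizer_iff.1 haN x).1 (mem_zpowers x)) (fun e => hfive x a hx ha e.symm)
    have hcomm : IsMulCommutative CQ := by
      have hle : zpowers x ≤ CQ := zpowers_le.2 (mem_centralizer_zpowers (Commute.refl x))
      have hord : orderOf (x * w) = 35 := by
        rw [hxw.orderOf_mul_eq_mul_orderOf_of_coprime (by rw [hx, hw]; norm_num), hx, hw]
      have hmem : x * w ∈ CQ := mul_mem (hle (mem_zpowers x)) hwC
      haveI : IsCyclic CQ := isCyclic_of_orderOf_eq_card (⟨x * w, hmem⟩ : CQ)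
        (by rw [Subgroup.orderOf_mk, hord, hC35])
      exact IsCyclic.isMulCommutative
    have hW : ∀ c ∈ CQ, orderOf c = 7 → zpowers c = zpowers w := by
      intro c hc hc7
      haveI := hcomm
      have hcw : Commute c w := congrArg Subtype.val (mul_comm' (⟨c, hc⟩ : CQ) ⟨w, hwC⟩)
      have hp : ∀ v : G, orderOf v = 7 → IsPGroup 7 (zpowers v) := fun v hv =>
        IsPGroup.of_card (n := 1) (by rw [Nat.card_zpowers, hv, pow_one])
      obtain ⟨k, hk⟩ := ((hp c hc7).to_sup_of_normal_right' (hp w hw)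
        (zpowers_le.2 (centralizer_le_normalizer _ (mem_centralizer_zpowers hcw)))).exists_card_eq
      have hd := h.card_dvd (zpowers c ⊔ zpowers w)
      rw [hk] at hd
      have hk1 : k ≤ 1 := by
        by_contra hk2
        have := (pow_dvd_pow 7 (show 2 ≤ k by omega)).trans hd
        omega
      have hle1 : Nat.card (zpowers c ⊔ zpowers w : Subgroup G) ≤ 7 := by
        rw [hk]; exact le_trans (Nat.pow_le_pow_right (by norm_num) hk1) (by norm_num)
      rw [Subgroup.eq_of_le_of_card_ge (le_sup_left : zpowers c ≤ zpowers c ⊔ zpowers w)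
          (by rw [Nat.card_zpowers, hc7]; exact hle1),
        ← Subgroup.eq_of_le_of_card_ge (le_sup_right : zpowers w ≤ zpowers c ⊔ zpowers w)
          (by rw [Nat.card_zpowers, hw]; exact hle1)]
    have haw : a * w * a⁻¹ = w⁻¹ := by
      refine hcase w 7 (by norm_num) hw ?_ fun e => h7m ?_
      · have hawC : a * w * a⁻¹ ∈ CQ := mem_centralizer_zpowers (by
          have h1 := conj_commute a hxw.symm
          rw [hax] at h1
          simpa using h1.inv_right)
        rw [← hW _ hawC (by rw [conj_orderOf, hw])]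
        exact mem_zpowers _
      · have : 7 ∣ Nat.card C := by
          rw [hm, ← hCm a ha, ← hw]
          exact Subgroup.orderOf_dvd_natCard _ (mem_centralizer_singleton_iff.2 e.eq.symm)
        rw [hm] at this
        omega
    have hinv : ∀ c ∈ CQ, a * c * a⁻¹ = c⁻¹ := by
      have hgen : closure ({x, w} : Set G) = CQ := by
        refine Subgroup.eq_of_le_of_card_ge ?_ ?_
        · rw [closure_le]
          rintro v (rfl | rfl)
          exacts [mem_centralizer_zpowers (Commute.refl _), hwC]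
        · rw [hC35]
          refine Nat.le_of_dvd Nat.card_pos (Nat.Coprime.mul_dvd_of_dvd_of_dvd (by norm_num : Nat.Coprime 5 7) ?_ ?_)
          · rw [← hx]; exact Subgroup.orderOf_dvd_natCard _ (Subgroup.subset_closure (by simp))
          · rw [← hw]; exact Subgroup.orderOf_dvd_natCard _ (Subgroup.subset_closure (by simp))
      intro c hc
      rw [← hgen] at hc
      induction hc using closure_induction with
      | mem v hv => rcases hv with rfl | rfl <;> assumption
      | one => simp
      | mul p q hp hq ihp ihq =>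
        haveI := hcomm
        have hpq : p * q = q * p :=
          congrArg Subtype.val (mul_comm' (⟨p, hgen ▸ hp⟩ : CQ) ⟨q, hgen ▸ hq⟩)
        rw [show a * (p * q) * a⁻¹ = (a * p * a⁻¹) * (a * q * a⁻¹) by group, ihp, ihq, hpq, mul_inv_rev]
      | inv p hp ihp =>
        rw [show a * p⁻¹ * a⁻¹ = (a * p * a⁻¹)⁻¹ by group, ihp]
    -- so there are thirty-five involutions in the normaliser, and no others
    have haC : a ∉ CQ := fun e => hfive x a hx ha (mem_centralizer_iff.1 e x (mem_zpowers x))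
    have hinvol : ∀ c ∈ CQ, orderOf (c * a) = 2 := by
      intro c hc
      refine orderOf_eq_prime ?_ fun e => haC ?_
      · rw [sq]
        calc c * a * (c * a) = c * (a * c * a⁻¹) * (a * a) := by group
          _ = 1 := by rw [hinv c hc, haa]; group
      · rw [← inv_eq_of_mul_eq_one_right e]; exact inv_mem hc
    let J : Set G := {v | orderOf v = 2}
    have hsub : (fun c => c * a) '' (CQ : Set G) ⊆ J := by
      rintro _ ⟨c, hc, rfl⟩; exact hinvol c hc
    have hJ : J.ncard = 35 := by
      have hJe : J = Set.range fun n : (⊤ : Subgroup G) => (n : G) * t * (n : G)⁻¹ := by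
        ext v
        refine ⟨fun hv => ?_, ?_⟩
        · obtain ⟨g, hg⟩ := isConj_iff.1 (h.isConj_involution ht hv)
          exact ⟨⟨g, mem_top g⟩, hg⟩
        · rintro ⟨n, rfl⟩
          show orderOf _ = 2
          rw [conj_orderOf, ht]
      have hm2 := card_range_conj (⊤ : Subgroup G) t
      rw [← hJe, top_inf_eq, Subgroup.card_top, h.card] at hm2
      change J.ncard * Nat.card C = 2520 at hm2
      rw [hm] at hm2
      omega
    have himg : ((fun c => c * a) '' (CQ : Set G)).ncard = 35 := by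
      rw [Set.ncard_image_of_injective _ (mul_left_injective a), ← Nat.card_coe_set_eq]
      exact hC35
    have hJN : J ⊆ (NQ : Set G) := by
      rw [← Set.eq_of_subset_of_ncard_le hsub (by omega) (Set.toFinite _)]
      rintro _ ⟨c, hc, rfl⟩
      exact mul_mem (centralizer_le_normalizer _ hc) haN
    have hJnorm : (closure J).Normal := by
      refine ⟨fun v hv g => ?_⟩
      induction hv using closure_induction with
      | mem q hq => exact Subgroup.subset_closure (show orderOf _ = 2 by rw [conj_orderOf]; exact hq)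
      | one => simp
      | mul p q hp hq ihp ihq =>
        rw [show g * (p * q) * g⁻¹ = (g * p * g⁻¹) * (g * q * g⁻¹) by group]
        exact mul_mem ihp ihq
      | inv p hp ihp =>
        rw [show g * p⁻¹ * g⁻¹ = (g * p * g⁻¹)⁻¹ by group]
        exact inv_mem ihp
    rcases IsSimpleGroup.eq_bot_or_eq_top_of_normal (closure J) hJnorm with e | e
    · have : t ∈ closure J := Subgroup.subset_closure ht
      rw [e, mem_bot] at this
      exact ht1 this
    · have : NQ = ⊤ := top_unique (e ▸ (closure_le _).2 hJN)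
      change Nat.card NQ = 70 at hN70
      rw [this, Subgroup.card_top, h.card] at hN70
      omega

/-- There is no exceptional simple group of order 2520. -/
theorem Hyp.false (h : Hyp G) : False := by
  haveI : Fact (Nat.Prime 2) := ⟨Nat.prime_two⟩
  obtain ⟨P⟩ : Nonempty (Sylow 2 G) := inferInstance
  set S := (P : Subgroup G)
  set N := normalizer (S : Set G)
  have hS8 : Nat.card S = 8 := h.card_sylow_two P
  obtain ⟨⟨t, htS⟩, ht⟩ := exists_prime_orderOf_dvd_card' (G := S) 2 (by rw [hS8]; norm_num)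
  rw [← Subgroup.orderOf_coe] at ht
  change orderOf t = 2 at ht
  have ht1 : t ≠ 1 := fun e => by rw [e, orderOf_one] at ht; omega
  have h7 := h.orbit_seven P htS ht1
  have h8 : 8 ∣ Nat.card (N ⊓ centralizer ({t} : Set G) : Subgroup G) :=
    hS8 ▸ Subgroup.card_dvd_of_le (le_inf le_normalizer fun a ha =>
      mem_centralizer_singleton_iff.2 (h.commute_two P ha htS).eq)
  have hS1 : S ≠ ⊥ := fun e => by rw [e, Subgroup.card_bot] at hS8; omega
  have hle := h.card_normalizer_le hS1 (h.ne_top (by rw [hS8]; norm_num))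
  have hd := h.card_dvd N
  have h56 : 56 ∣ Nat.card N := by
    rw [← h7, show (56 : ℕ) = 7 * 8 from rfl]
    exact mul_dvd_mul_left 7 h8
  have key : ∀ n ∈ Nat.divisors 2520, 56 ∣ n → n ≤ 315 → n = 56 ∨ n = 168 ∨ n = 280 := by
    decide +kernel
  rcases key _ (Nat.mem_divisors.2 ⟨hd, by norm_num⟩) h56 hle with e | e | e
  · exact h.ne_56 P e
  · exact h.ne_168 P e
  · exact h.ne_280 P e

end Cfsg.Agent.H68.SimpleA7
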