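import Mathlib
import Cfsg.Agent.H30.Basics

/-!
# Groups of order 2520: elementary bounds

We collect facts about a simple group of order 2520 that is not isomorphic to the alternating group
of degree seven.
-/

set_option autoImplicit false
set_option linter.all false

namespace Cfsg.Agent.H68.SimpleA7

open Subgroup

/-- A simple group of order 2520 other than the alternating group of degree seven. -/
structure Hyp (G : Type*) [Group G] : Prop where
  card : Nat.card G = 2520
  simple : IsSimpleGroup G
  no_iso : IsEmpty (G ≃* alternatingGroup (Fin 7))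

variable {G : Type*} [Group G] [Finite G]

theorem Hyp.not_comm (h : Hyp G) : ¬ IsMulCommutative G := by
  haveI := h.simple
  exact H30.not_comm_of_not_prime (by rw [h.card]; norm_num)

/-- A proper subgroup has index at least eight. -/
theorem Hyp.eight_le_index (h : Hyp G) {H : Subgroup G} (hH : H ≠ ⊤) : 8 ≤ H.index := by
  haveI := h.simple
  have hd := H30.two_mul_card_dvd_factorial h.not_comm H hH
  rw [h.card] at hd
  by_contra hlt
  have hi : H.index = 7 := by
    by_contra h7
    have : H.index ≤ 6 := by omega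
    interval_cases H.index <;> simp [Nat.factorial] at hd
  obtain ⟨f, hf⟩ := H30.exists_hom_alternating h.not_comm H hH
  have e : alternatingGroup (Fin H.index) ≃* alternatingGroup (Fin 7) := by rw [hi]
  have hA : Nat.card (alternatingGroup (Fin 7)) = 2520 := by
    rw [nat_card_alternatingGroup]; simp [Nat.factorial]
  have hb : Function.Bijective f := hf.bijective_of_nat_card_le
    (by rw [Nat.card_congr e.toEquiv, hA, h.card])
  exact h.no_iso.false ((MulEquiv.ofBijective f hb).trans e)

/-- A proper subgroup has order at most 315. -/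
theorem Hyp.card_le (h : Hyp G) {H : Subgroup G} (hH : H ≠ ⊤) : Nat.card H ≤ 315 := by
  have h1 := h.eight_le_index hH
  have h2 := H.card_mul_index
  rw [h.card] at h2
  nlinarith

theorem Hyp.card_dvd (h : Hyp G) (H : Subgroup G) : Nat.card H ∣ 2520 :=
  h.card ▸ Subgroup.card_subgroup_dvd_card H

theorem Hyp.ne_top (h : Hyp G) {H : Subgroup G} (hH : Nat.card H < 2520) : H ≠ ⊤ := by
  rintro rfl
  rw [Subgroup.card_top, h.card] at hH
  exact lt_irrefl _ hH

/-- The normaliser of a non-trivial proper subgroup has order at most 315. -/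
theorem Hyp.card_normalizer_le (h : Hyp G) {H : Subgroup G} (h1 : H ≠ ⊥) (h2 : H ≠ ⊤) :
    Nat.card (normalizer (H : Set G)) ≤ 315 := by
  haveI := h.simple
  exact h.card_le (H30.normalizer_ne_top H h1 h2)

/-- A non-trivial element has a centraliser of order at most 315. -/
theorem Hyp.card_centralizer_le (h : Hyp G) {g : G} (hg : g ≠ 1) :
    Nat.card (centralizer ({g} : Set G)) ≤ 315 := by
  haveI := h.simple
  refine h.card_le fun htop => hg ?_
  have hc : g ∈ center G := mem_center_iff.2 fun x =>
    mem_centralizer_singleton_iff.1 (htop ▸ mem_top x)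
  rcases IsSimpleGroup.eq_bot_or_eq_top_of_normal (center G) inferInstance with e | e
  · rwa [e, mem_bot] at hc
  · exact absurd ⟨⟨fun a b => mem_center_iff.1 (e ▸ mem_top b : b ∈ center G) a⟩⟩ h.not_comm

/-- The numbers of Sylow subgroups for a subgroup of prime order. -/
theorem Hyp.index_normalizer_mod (h : Hyp G) {p : ℕ} [Fact p.Prime] (Q : Subgroup G)
    (hQ : Nat.card Q = p) (hp : Nat.card G / p % p ≠ 0) :
    (normalizer (Q : Set G)).index % p = 1 ∧ 8 ≤ (normalizer (Q : Set G)).index ∧
      (normalizer (Q : Set G)).index ∣ Nat.card G / p := by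
  have hpp := (Fact.out : p.Prime)
  have hmul := Q.card_mul_index
  rw [hQ] at hmul
  have hidx : Q.index = Nat.card G / p := by
    rw [← hmul, Nat.mul_div_cancel_left _ hpp.pos]
  have hnd : ¬ p ∣ Q.index := fun hd => hp (Nat.mod_eq_zero_of_dvd (by rwa [← hidx]))
  let S : Sylow p G := (IsPGroup.of_card (n := 1) (by rw [hQ, pow_one])).toSylow hnd
  have hS : (S : Subgroup G) = Q := IsPGroup.toSylow_coe _ _
  have h1 := S.card_eq_index_normalizer
  change _ = (normalizer ((S : Subgroup G) : Set G)).index at h1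
  rw [hS] at h1
  refine ⟨?_, ?_, ?_⟩
  · have h2 := card_sylow_modEq_one p G
    rw [h1] at h2
    rw [h2, Nat.one_mod_eq_one.2 hpp.ne_one]
  · refine h.eight_le_index ?_
    haveI := h.simple
    refine H30.normalizer_ne_top Q (fun e => ?_) (fun e => ?_)
    · rw [e, Subgroup.card_bot] at hQ
      exact hpp.ne_one hQ.symm
    · rw [e, Subgroup.card_top, h.card] at hQ
      exact absurd (hQ ▸ hpp) (by norm_num)
  · rw [← hidx]
    exact index_dvd_of_le le_normalizer

/-- Subgroups of order five. -/
theorem Hyp.five (h : Hyp G) (Q : Subgroup G) (hQ : Nat.card Q = 5) :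
    Nat.card (normalizer (Q : Set G)) = 120 ∨ Nat.card (normalizer (Q : Set G)) = 70 ∨
      Nat.card (normalizer (Q : Set G)) = 45 ∨ Nat.card (normalizer (Q : Set G)) = 20 := by
  haveI : Fact (Nat.Prime 5) := ⟨by norm_num⟩
  obtain ⟨h1, h2, h3⟩ := h.index_normalizer_mod Q hQ (by rw [h.card]; norm_num)
  have h4 := (normalizer (Q : Set G)).card_mul_index
  rw [h.card] at h3 h4
  generalize (normalizer (Q : Set G)).index = n at h1 h2 h3 h4
  generalize Nat.card (normalizer (Q : Set G)) = m at h4
  have hn : n ∈ Nat.divisors 504 := Nat.mem_divisors.2 ⟨by simpa using h3, by norm_num⟩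
  have hn' : ∀ n ∈ Nat.divisors 504, n % 5 = 1 → 8 ≤ n → n = 21 ∨ n = 36 ∨ n = 56 ∨ n = 126 := by
    decide +kernel
  rcases hn' n hn h1 h2 with rfl | rfl | rfl | rfl <;> omega

/-- An even permutation of order two moves a multiple of four points. -/
theorem four_dvd_moved {Ω : Type*} [Fintype Ω] [DecidableEq Ω] (σ : Equiv.Perm Ω)
    (h2 : σ * σ = 1) (hs : Equiv.Perm.sign σ = 1) :
    4 ∣ Fintype.card Ω - (Function.fixedPoints σ).ncard := by
  have hsq : σ ^ 2 = 1 := by rw [sq, h2]
  have hsupp : Fintype.card Ω - (Function.fixedPoints σ).ncard = σ.support.card := by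
    have e : Function.fixedPoints σ = ((σ.supportᶜ : Finset Ω) : Set Ω) := by
      ext x; simp [Function.mem_fixedPoints, Function.IsFixedPt]
    rw [e, Set.ncard_coe_finset, Finset.card_compl]
    have := σ.support.card_le_univ
    omega
  rw [hsupp, ← Equiv.Perm.sum_cycleType]
  have hall : ∀ n ∈ σ.cycleType, n = 2 := by
    intro n hn
    have hd : n ∣ orderOf σ := Equiv.Perm.dvd_of_mem_cycleType hn
    have hd2 : n ∣ 2 := hd.trans (orderOf_dvd_of_pow_eq_one hsq)
    have h1 := Equiv.Perm.two_le_of_mem_cycleType hn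
    have h3 := Nat.le_of_dvd two_pos hd2
    omega
  rw [Multiset.eq_replicate_card.2 hall, Multiset.sum_replicate, smul_eq_mul]
  rw [Equiv.Perm.sign_of_cycleType, Multiset.eq_replicate_card.2 hall, Multiset.sum_replicate,
    Multiset.card_replicate, smul_eq_mul] at hs
  obtain ⟨k, hk⟩ : Even σ.cycleType.card := by
    rcases Nat.even_or_odd σ.cycleType.card with he | ho
    · exact he
    · exfalso
      rw [pow_add, Even.neg_one_pow (even_two.mul_left _), one_mul, ho.neg_one_pow] at hs
      exact absurd hs (by decide)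
  exact ⟨k, by omega⟩

/-- In a simple non-abelian group every element acts as an even permutation. -/
theorem sign_eq_one [IsSimpleGroup G] (hG : ¬ IsMulCommutative G) {Ω : Type*} [Fintype Ω]
    [DecidableEq Ω] [MulAction G Ω] (g : G) :
    Equiv.Perm.sign (MulAction.toPerm g : Equiv.Perm Ω) = 1 := by
  let f : G →* ℤˣ := Equiv.Perm.sign.comp (MulAction.toPermHom G Ω)
  have hk : f.ker = ⊤ := by
    refine (IsSimpleGroup.eq_bot_or_eq_top_of_normal _ inferInstance).resolve_left fun hb => ?_
    exact hG ⟨⟨fun a b => (MonoidHom.ker_eq_bot_iff f).1 hb (by rw [map_mul, map_mul, mul_comm])⟩⟩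
  exact (hk ▸ mem_top g : g ∈ f.ker)

/-- The fixed points of two commuting elements, one of prime order. -/
theorem fixed_modEq {Ω : Type*} [Finite Ω] [MulAction G Ω] {p : ℕ} [Fact p.Prime] {x y : G}
    (hx : x ^ p = 1) (hxy : x * y = y * x) :
    Nat.card (MulAction.fixedBy Ω y) ≡
      Nat.card {ω : Ω // y • ω = ω ∧ x • ω = ω} [MOD p] := by
  let A : SubMulAction (zpowers x) Ω :=
    { carrier := MulAction.fixedBy Ω y
      smul_mem' := by
        rintro ⟨g, hg⟩ ω hω
        have hc : Commute g y := by
          obtain ⟨i, rfl⟩ := mem_zpowers_iff.1 hg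
          exact Commute.zpow_left hxy i
        rw [MulAction.mem_fixedBy] at hω ⊢
        show y • g • ω = g • ω
        rw [← mul_smul, ← hc.eq, mul_smul, hω] }
  have hp : IsPGroup p (zpowers x) := by
    rcases (Nat.dvd_prime (Fact.out : p.Prime)).1 (orderOf_dvd_of_pow_eq_one hx) with e | e
    · exact IsPGroup.of_card (n := 0) (by rw [Nat.card_zpowers, e, pow_zero])
    · exact IsPGroup.of_card (n := 1) (by rw [Nat.card_zpowers, e, pow_one])
  have hm := hp.card_modEq_card_fixedPoints A
  refine hm.trans ?_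
  rw [Nat.card_congr (β := {ω : Ω // y • ω = ω ∧ x • ω = ω})]
  refine ⟨fun a => ⟨a.1.1, a.1.2, ?_⟩, fun a => ⟨⟨a.1, a.2.1⟩, ?_⟩, fun a => rfl, fun a => rfl⟩
  · exact congrArg Subtype.val (a.2 ⟨x, mem_zpowers x⟩)
  · rintro ⟨g, hg⟩
    refine Subtype.ext ?_
    obtain ⟨i, rfl⟩ := mem_zpowers_iff.1 hg
    exact MulAction.mem_stabilizer_iff.1
      (zpow_mem (MulAction.mem_stabilizer_iff.2 a.2.2 : x ∈ MulAction.stabilizer G a.1) i)

end Cfsg.Agent.H68.SimpleA7
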