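import Cfsg.Agent.H68.SimpleA7.Recog
import Cfsg.Agent.H42.MaxIdeal
import Cfsg.Agent.H44.Codegree
import Cfsg.Agent.S3864
import Cfsg.Agent.S4481
import Cfsg.Agent.S4482

/-!
# Order 2520: dihedral Sylow two-subgroups

The principal two-block leaves three possibilities for the centraliser of an involution, two of which
are impossible and the third gives the local data of the alternating group.
-/

set_option autoImplicit false
set_option linter.all false

namespace Cfsg.Agent.H68.SimpleA7

open Subgroup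

variable {G : Type*} [Group G] [Finite G]

theorem center_dihedral_four : ∀ a b : DihedralGroup 4, (∀ x, a * x = x * a) → (∀ x, b * x = x * b) →
    a ≠ 1 → b ≠ 1 → a = b := by
  decide +kernel

theorem degree_solutions : ∀ x ∈ Nat.divisors 2520, x * x < 2520 → ∀ m ∈ Nat.divisors 315,
    8 * m ≤ 315 → ∀ a ∈ m.divisors, ∀ b ∈ m.divisors,
    (x ≠ 1 ∧ 2520 * ((x : ℤ) - 1) ^ 2 * a ^ 2 * b ^ 2 = 64 * x * (x + 1) * m ^ 3 * (a + b) ^ 2) ∨
      2520 * ((x : ℤ) + 1) ^ 2 * a ^ 2 * b ^ 2 = 64 * x * (x - 1) * m ^ 3 * (a + b) ^ 2 →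
    (m = 3 ∧ (a = 3 ∧ b = 1 ∨ a = 1 ∧ b = 3)) ∨ (m = 7 ∧ a = 7 ∧ b = 7) ∨
      (m = 15 ∧ a = 15 ∧ b = 15) := by
  decide +kernel

/-- A subgroup with two commuting involutions has order divisible by four. -/
theorem four_dvd_card {H : Subgroup G} {a b : G} (ha : orderOf a = 2) (hb : orderOf b = 2)
    (hab : Commute a b) (hne : a ≠ b) (haH : a ∈ H) (hbH : b ∈ H) : 4 ∣ Nat.card H := by
  haveI : Fact (Nat.Prime 2) := ⟨Nat.prime_two⟩
  have hA : IsPGroup 2 (zpowers a) := IsPGroup.of_card (n := 1) (by rw [Nat.card_zpowers, ha, pow_one])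
  have hB : IsPGroup 2 (zpowers b) := IsPGroup.of_card (n := 1) (by rw [Nat.card_zpowers, hb, pow_one])
  have hn : zpowers a ≤ normalizer (zpowers b : Set G) := by
    rw [zpowers_le]
    refine centralizer_le_normalizer _ ?_
    rw [zpowers_eq_closure, centralizer_closure]
    exact mem_centralizer_singleton_iff.2 hab.eq
  obtain ⟨k, hk⟩ := (hA.to_sup_of_normal_right' hB hn).exists_card_eq
  have hle : zpowers a ⊔ zpowers b ≤ H := sup_le (zpowers_le.2 haH) (zpowers_le.2 hbH)
  refine dvd_trans ?_ (Subgroup.card_dvd_of_le hle)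
  rw [hk]
  refine pow_dvd_pow 2 (m := 2) ?_
  by_contra hk2
  have heq : zpowers b = zpowers a ⊔ zpowers b := by
    refine Subgroup.eq_of_le_of_card_ge le_sup_right ?_
    rw [hk, Nat.card_zpowers, hb]
    exact le_trans (Nat.pow_le_pow_right two_pos (show k ≤ 1 by omega)) (by norm_num)
  have hmem : a ∈ zpowers b := heq ▸ mem_sup_left (mem_zpowers a)
  obtain ⟨i, hi⟩ := mem_zpowers_iff.1 hmem
  rcases Int.even_or_odd i with ⟨j, rfl⟩ | ⟨j, rfl⟩
  · rw [← two_mul, zpow_mul, zpow_ofNat, sq, mul_self hb, one_zpow] at hi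
    rw [← hi, orderOf_one] at ha
    omega
  · rw [zpow_add, zpow_mul, zpow_ofNat, sq, mul_self hb, one_zpow, one_mul, zpow_one] at hi
    exact hne hi.symm

/-- An element of prime order commuting with an involution on fifteen points. -/
theorem Hyp.no_fifteen (h : Hyp G) {H : Subgroup G} (hi : H.index = 15) {a x : G}
    (ha : orderOf a = 2) (hax : x * a = a * x) {p k : ℕ} [Fact p.Prime] (hx : x ^ p = 1)
    (hk : Nat.card {ω : G ⧸ H // a • ω = ω ∧ x • ω = ω} = k)
    (hpk : p = 7 ∧ k = 1 ∨ p = 5 ∧ k = 0) : False := by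
  classical
  haveI := h.simple
  haveI := Fintype.ofFinite (G ⧸ H)
  have h1 : Nat.card (MulAction.fixedBy (G ⧸ H) a) ≡ k [MOD p] := hk ▸ fixed_modEq hx hax
  have h4 := four_dvd_moved (MulAction.toPerm a : Equiv.Perm (G ⧸ H))
    (Equiv.ext fun ω => by
      show a • a • ω = ω
      rw [← mul_smul, mul_self ha, one_smul])
    (sign_eq_one h.not_comm a)
  have e : Function.fixedPoints (MulAction.toPerm a : Equiv.Perm (G ⧸ H)) =
      MulAction.fixedBy (G ⧸ H) a := rfl
  rw [e, ← Nat.card_coe_set_eq, ← Nat.card_eq_fintype_card, ← Subgroup.index_eq_card, hi] at h4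
  have hle : Nat.card (MulAction.fixedBy (G ⧸ H) a) ≤ 15 := by
    rw [← hi, Subgroup.index_eq_card]
    exact Nat.card_le_card_of_injective _ Subtype.val_injective
  have hall : Nat.card (MulAction.fixedBy (G ⧸ H) a) = 15 := by
    unfold Nat.ModEq at h1
    obtain ⟨rfl, rfl⟩ | ⟨rfl, rfl⟩ := hpk <;> omega
  have hset : MulAction.fixedBy (G ⧸ H) a = Set.univ := by
    refine Set.eq_of_subset_of_ncard_le (Set.subset_univ _) ?_ Set.finite_univ
    rw [Set.ncard_univ, ← Subgroup.index_eq_card, hi, ← Nat.card_coe_set_eq, hall]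
  have hker : a ∈ H.normalCore := by
    rw [Subgroup.normalCore_eq_ker]
    exact MonoidHom.mem_ker.2 (Equiv.ext fun ω => (Set.eq_univ_iff_forall.1 hset ω :))
  rcases IsSimpleGroup.eq_bot_or_eq_top_of_normal H.normalCore inferInstance with e | e
  · rw [e, mem_bot] at hker
    rw [hker, orderOf_one] at ha
    omega
  · have : H = ⊤ := top_unique (e ▸ H.normalCore_le)
    rw [this, index_top] at hi
    omega

/-- An element of order five cannot centralise a Sylow two-subgroup. -/
theorem Hyp.no_five (h : Hyp G) {x : G} (hx : orderOf x = 5) {P : Subgroup G}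
    (hP : Nat.card P = 8) (hPx : P ≤ centralizer ({x} : Set G)) : False := by
  haveI := h.simple
  haveI : Fact (Nat.Prime 5) := ⟨by norm_num⟩
  set Q := zpowers x
  have hQ : Nat.card Q = 5 := by rw [Nat.card_zpowers, hx]
  have hQi : Q.index = 504 := by
    have := Q.card_mul_index; rw [hQ, h.card] at this; omega
  let S : Sylow 5 G := (IsPGroup.of_card (n := 1) (by rw [hQ, pow_one])).toSylow (by rw [hQi]; norm_num)
  have hS : (S : Subgroup G) = Q := IsPGroup.toSylow_coe _ _
  obtain ⟨e, c, he, he1, hN, hC⟩ :=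
    H30.exists_automizer_of_prime_order h.not_comm 5 S (by rw [hS, hQ])
  rw [hS] at hN hC
  have hcc : centralizer (Q : Set G) = centralizer ({x} : Set G) := by
    simp only [Q, zpowers_eq_closure, centralizer_closure]
  have h8 : 8 ∣ 5 * c := hC ▸ hP ▸ Subgroup.card_dvd_of_le (hcc.symm ▸ hPx)
  have h5 := h.five Q hQ
  have he4 : e ≤ 4 := Nat.le_of_dvd (by norm_num) he
  obtain ⟨d, hd⟩ : 8 ∣ c := (Nat.Coprime.dvd_mul_left (by norm_num : Nat.Coprime 8 5)).1 h8
  subst hd
  rw [hN] at h5
  have hd' : d ∈ Finset.range 4 := Finset.mem_range.2 (by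
    by_contra hd4
    have : 5 * (8 * 4) * 2 ≤ 5 * (8 * d) * e :=
      Nat.mul_le_mul (Nat.mul_le_mul_left _ (Nat.mul_le_mul_left _ (by omega))) he1
    omega)
  rw [Finset.mem_range] at hd'
  interval_cases e <;> interval_cases d <;> omega

/-- An element of order seven commuting with an involution has no normaliser of order divisible by eight. -/
theorem Hyp.no_seven_involution (h : Hyp G) {x a : G} (hx : orderOf x = 7) (ha : orderOf a = 2)
    (hax : x * a = a * x) (h8 : 8 ∣ Nat.card (normalizer (zpowers x : Set G))) : False := by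
  haveI := h.simple
  haveI : Fact (Nat.Prime 7) := ⟨by norm_num⟩
  set Q := zpowers x
  have hQ : Nat.card Q = 7 := by rw [Nat.card_zpowers, hx]
  have hcc : centralizer (Q : Set G) = centralizer ({x} : Set G) := by
    simp only [Q, zpowers_eq_closure, centralizer_closure]
  obtain ⟨h1, h2, h3⟩ := h.index_normalizer_mod Q hQ (by rw [h.card]; norm_num)
  have hm := (normalizer (Q : Set G)).card_mul_index
  rw [h.card] at hm h3
  obtain ⟨d, hd⟩ := h8
  have hn45 : (normalizer (Q : Set G)).index ∈ Nat.divisors 2520 :=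
    Nat.mem_divisors.2 ⟨Dvd.intro_left _ hm, by norm_num⟩
  have key : ∀ n ∈ Nat.divisors 2520, n ∣ 315 → n % 7 = 1 → 8 ≤ n → n ∣ 360 → n = 15 := by
    decide +kernel
  have h315 : (normalizer (Q : Set G)).index ∣ 315 := ⟨d, by rw [hd] at hm; nlinarith⟩
  have h15 := key _ hn45 h315 h1 h2 (by simpa using h3)
  refine h.no_fifteen (p := 7) (k := 1) h15 ha hax (by rw [← hx, pow_orderOf_eq_one]) ?_
    (Or.inl ⟨rfl, rfl⟩)
  set N := normalizer (Q : Set G)
  have haN : a ∈ N := centralizer_le_normalizer _ (hcc.symm ▸ mem_centralizer_singleton_iff.2 hax.symm)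
  have hxN : x ∈ N := le_normalizer (mem_zpowers x)
  have fix1 : ∀ g ∈ N, g • (QuotientGroup.mk (1 : G) : G ⧸ N) = QuotientGroup.mk (1 : G) := fun g hg =>
    QuotientGroup.eq.2 (by simpa using hg)
  refine Nat.card_eq_one_iff_unique.2 ⟨⟨?_⟩, ⟨⟨QuotientGroup.mk 1, fix1 a haN, fix1 x hxN⟩⟩⟩
  have huniq : ∀ ω : G ⧸ N, x • ω = ω → ω = QuotientGroup.mk (1 : G) := by
    intro ω hω
    induction ω using QuotientGroup.induction_on with
    | H g =>
    rw [MulAction.Quotient.smul_mk, QuotientGroup.eq] at hω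
    have hy : g⁻¹ * x⁻¹ * g ∈ N := by simpa [mul_assoc] using hω
    set y := g⁻¹ * x⁻¹ * g with hydef
    have hyo : orderOf y = 7 := by
      rw [hydef, show g⁻¹ * x⁻¹ * g = g⁻¹ * x⁻¹ * g⁻¹⁻¹ by rw [inv_inv], conj_orderOf, orderOf_inv, hx]
    have hyQ : y ∈ Q := by
      have hp : IsPGroup 7 (zpowers y) := IsPGroup.of_card (n := 1) (by rw [Nat.card_zpowers, hyo, pow_one])
      have hQp : IsPGroup 7 Q := IsPGroup.of_card (n := 1) (by rw [hQ, pow_one])
      obtain ⟨k, hk⟩ := (hp.to_sup_of_normal_right' hQp (zpowers_le.2 hy)).exists_card_eq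
      have hd7 := h.card_dvd (zpowers y ⊔ Q)
      rw [hk] at hd7
      have hk1 : k ≤ 1 := by
        by_contra hk2
        have := (pow_dvd_pow 7 (show 2 ≤ k by omega)).trans hd7
        omega
      have heq : Q = zpowers y ⊔ Q := by
        refine Subgroup.eq_of_le_of_card_ge le_sup_right ?_
        rw [hk, hQ]
        exact le_trans (Nat.pow_le_pow_right (by norm_num) hk1) (by norm_num)
      rw [heq]; exact mem_sup_left (mem_zpowers y)
    have hyz : zpowers y = Q := Subgroup.eq_of_le_of_card_ge (zpowers_le.2 hyQ)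
      (by rw [hQ, Nat.card_zpowers, hyo])
    have hmap : Q.map (MulAut.conj g⁻¹).toMonoidHom = Q := by
      rw [MonoidHom.map_zpowers]
      show zpowers (g⁻¹ * x * g⁻¹⁻¹) = Q
      rw [← hyz, ← zpowers_inv, hydef]
      congr 1
      group
    have hgN : g⁻¹ ∈ N := Subgroup.mem_normalizer_iff.2 fun w => ⟨fun hw => by
      rw [← hmap]; exact ⟨w, hw, rfl⟩, fun hw => by
      rw [← hmap] at hw
      obtain ⟨w', hw', e⟩ := hw
      exact (MulAut.conj g⁻¹).injective e ▸ hw'⟩
    exact QuotientGroup.eq.2 (by simpa using hgN)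
  rintro ⟨ω, -, hω⟩ ⟨ω', -, hω'⟩
  exact Subtype.ext ((huniq ω hω).trans (huniq ω' hω').symm)

/-- An element of order seven cannot centralise a Sylow two-subgroup. -/
theorem Hyp.no_seven (h : Hyp G) {x : G} (hx : orderOf x = 7) {P : Subgroup G}
    (hP : Nat.card P = 8) (hPx : P ≤ centralizer ({x} : Set G)) : False := by
  haveI : Fact (Nat.Prime 2) := ⟨Nat.prime_two⟩
  have hcc : centralizer (zpowers x : Set G) = centralizer ({x} : Set G) := by
    simp only [zpowers_eq_closure, centralizer_closure]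
  obtain ⟨⟨a, haP⟩, ha⟩ := exists_prime_orderOf_dvd_card' (G := P) 2 (by rw [hP]; norm_num)
  rw [← Subgroup.orderOf_coe] at ha
  exact h.no_seven_involution hx ha (mem_centralizer_singleton_iff.1 (hPx haP)).symm
    (hP ▸ Subgroup.card_dvd_of_le (hPx.trans (hcc ▸ centralizer_le_normalizer _)))

/-- The local data from a centraliser of order twenty-four. -/
theorem Hyp.false_of_twenty_four (h : Hyp G) {z t s : G} (hz : orderOf z = 2) (ht : orderOf t = 2)
    (hs : orderOf s = 2) (htz : t ≠ z) (hzt : Commute z t) (hzs : Commute z s)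
    (hst : ¬ Commute s t) (hC : Nat.card (centralizer ({z} : Set G)) = 24)
    (h12 : Nat.card (centralizer ({z, t} : Set G)) = 12)
    (h4 : Nat.card (centralizer ({z, s} : Set G)) = 4)
    (hconj : ∀ a : G, orderOf a = 2 → IsConj z a) : False := by
  haveI : Fact (Nat.Prime 3) := ⟨Nat.prime_three⟩
  set C1 := centralizer ({z, t} : Set G) with hC1def
  have hmem : ∀ {c : G}, c ∈ C1 → Commute z c ∧ Commute t c := fun {c} hc =>
    ⟨mem_centralizer_iff.1 hc z (Or.inl rfl), mem_centralizer_iff.1 hc t (Or.inr rfl)⟩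
  have hof : ∀ {c : G}, Commute z c → Commute t c → c ∈ C1 := fun {c} h1 h2 =>
    mem_centralizer_iff.2 fun v hv => by rcases hv with rfl | rfl <;> [exact h1.eq; exact h2.eq]
  have hle : C1 ≤ centralizer ({z} : Set G) := centralizer_le (by simp)
  have hzC : z ∈ C1 := hof (Commute.refl z) hzt.symm
  have htC : t ∈ C1 := hof hzt (Commute.refl t)
  haveI hnorm : (C1.subgroupOf (centralizer ({z} : Set G))).Normal := by
    refine Subgroup.normal_of_index_eq_two ?_
    have hm := (C1.subgroupOf (centralizer ({z} : Set G))).card_mul_index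
    rw [Nat.card_congr (subgroupOfEquivOfLe hle).toEquiv, h12, hC] at hm
    omega
  have hcomm : ∀ a ∈ C1, ∀ b ∈ C1, Commute a b := by
    have hcyc : IsCyclic (C1 ⧸ center C1) := by
      have hd : 4 ∣ Nat.card ((center C1).map C1.subtype) := by
        refine four_dvd_card hz ht hzt htz.symm ⟨⟨z, hzC⟩, ?_, rfl⟩ ⟨⟨t, htC⟩, ?_, rfl⟩
        · exact mem_center_iff.2 fun w => Subtype.ext (hmem w.2).1.eq.symm
        · exact mem_center_iff.2 fun w => Subtype.ext (hmem w.2).2.eq.symm
      rw [Subgroup.card_map_of_injective C1.subtype_injective] at hd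
      have hm := (center C1).card_mul_index
      rw [h12] at hm
      obtain ⟨l, hl⟩ := hd
      rw [hl] at hm
      have h3 : (center C1).index ∣ 3 := ⟨l, by nlinarith⟩
      rcases (Nat.dvd_prime Nat.prime_three).1 h3 with e | e
      · haveI : Subsingleton (C1 ⧸ center C1) := (Nat.card_eq_one_iff_unique.1
          (by rw [← Subgroup.index_eq_card, e])).1
        infer_instance
      · exact isCyclic_of_prime_card (p := 3) (by rw [← Subgroup.index_eq_card, e])
    intro a ha b hb
    exact congrArg Subtype.val (commutative_of_cyclic_center_quotient (QuotientGroup.mk' (center C1))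
      (by rw [QuotientGroup.ker_mk']) (⟨a, ha⟩ : C1) ⟨b, hb⟩)
  obtain ⟨⟨y, hyC⟩, hy⟩ := exists_prime_orderOf_dvd_card' (G := C1) 3 (by rw [h12]; norm_num)
  rw [← Subgroup.orderOf_coe] at hy
  change orderOf y = 3 at hy
  have hyy : IsPGroup 3 (zpowers y) := IsPGroup.of_card (n := 1) (by rw [Nat.card_zpowers, hy, pow_one])
  have hcore : ∀ c : G, Commute z c → c * y * c⁻¹ ∈ zpowers y := by
    intro c hc
    have hwC : c * y * c⁻¹ ∈ C1 :=
      hnorm.conj_mem (⟨y, hle hyC⟩ : centralizer ({z} : Set G)) hyC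
        ⟨c, mem_centralizer_singleton_iff.2 hc.eq.symm⟩
    set w := c * y * c⁻¹
    have hwo : orderOf w = 3 := by rw [conj_orderOf, hy]
    have hww : IsPGroup 3 (zpowers w) :=
      IsPGroup.of_card (n := 1) (by rw [Nat.card_zpowers, hwo, pow_one])
    have hn : zpowers w ≤ normalizer (zpowers y : Set G) := by
      rw [zpowers_le]
      refine centralizer_le_normalizer _ ?_
      rw [zpowers_eq_closure, centralizer_closure]
      exact mem_centralizer_singleton_iff.2 (hcomm w hwC y hyC).eq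
    obtain ⟨k, hk⟩ := (hww.to_sup_of_normal_right' hyy hn).exists_card_eq
    have hd := Subgroup.card_dvd_of_le (sup_le (zpowers_le.2 hwC) (zpowers_le.2 hyC))
    rw [hk, h12] at hd
    have hk1 : k ≤ 1 := by
      by_contra hk2
      have := (pow_dvd_pow 3 (show 2 ≤ k by omega)).trans hd
      omega
    have heq : zpowers y = zpowers w ⊔ zpowers y := by
      refine Subgroup.eq_of_le_of_card_ge le_sup_right ?_
      rw [hk, Nat.card_zpowers, hy]
      exact le_trans (Nat.pow_le_pow_right (by norm_num) hk1) (by norm_num)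
    rw [heq]; exact mem_sup_left (mem_zpowers w)
  have hsy : s * y * s⁻¹ = y⁻¹ := by
    rcases mem_cyclic_three hy (hcore s hzs) with e | e | e
    · have := conj_orderOf s y
      rw [e, orderOf_one, hy] at this
      omega
    · exfalso
      have hys : y ∈ centralizer ({z, s} : Set G) := mem_centralizer_iff.2 fun v hv => by
        rcases hv with rfl | rfl
        · exact (hmem hyC).1.eq
        · exact mul_inv_eq_iff_eq_mul.1 e
      have := Subgroup.orderOf_dvd_natCard _ hys
      rw [hy, h4] at this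
      omega
    · exact e
  exact (Local.mk z t s y hz ht hs hy htz hzt (hmem hyC).1 (hmem hyC).2 hzs hsy hst hC hcore
    hconj).false h

/-- The Sylow two-subgroups are not dihedral. -/
theorem Hyp.not_dihedral (h : Hyp G) (P : Sylow 2 G)
    (e : (P : Subgroup G) ≃* DihedralGroup 4) : False := by
  haveI := h.simple
  haveI : Fact (Nat.Prime 2) := ⟨Nat.prime_two⟩
  have hP8 : Nat.card (P : Subgroup G) = 8 := by
    rw [Nat.card_congr e.toEquiv, DihedralGroup.nat_card]
  have hdih : Nonempty (↥(P : Subgroup G) ≃* DihedralGroup (2 ^ (3 - 1))) := ⟨e⟩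
  -- one class of involutions
  have hone : ∀ a b : G, orderOf a = 2 → orderOf b = 2 → IsConj a b := by
    rcases Cfsg.Agent.S3864.result P 3 le_rfl hdih with ⟨h1, -⟩ | ⟨-, ⟨N, hN, hN2⟩, -⟩ | ⟨-, hc⟩
    · intro a b ha hb
      obtain ⟨hs, -⟩ := Nat.card_eq_one_iff_unique.1 h1
      have := congrArg Subtype.val
        (Subsingleton.elim (⟨ConjClasses.mk a, a, rfl, ha⟩ :
          {C : ConjClasses G // ∃ g : G, ConjClasses.mk g = C ∧ orderOf g = 2})
          ⟨ConjClasses.mk b, b, rfl, hb⟩)
      exact ConjClasses.mk_eq_mk_iff_isConj.1 this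
    · exfalso
      rcases IsSimpleGroup.eq_bot_or_eq_top_of_normal N hN with rfl | rfl
      · rw [index_bot, h.card] at hN2; omega
      · rw [index_top] at hN2; omega
    · exfalso
      obtain ⟨R, N, hN, hNc⟩ := hc
      have hR : Nat.card (R : Subgroup G) = 8 :=
        (Nat.card_congr (Sylow.equiv R P).toEquiv).trans hP8
      have h3 := hNc.card_mul
      rcases IsSimpleGroup.eq_bot_or_eq_top_of_normal N hN with rfl | rfl
      · rw [Subgroup.card_bot, h.card, hR] at h3
        omega
      · rw [Subgroup.card_top, h.card, hR] at h3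
        omega
  set σ' : (P : Subgroup G) := e.symm (DihedralGroup.r 1) with hσ'
  set τ' : (P : Subgroup G) := e.symm (DihedralGroup.sr 0) with hτ'
  set σ : G := (σ' : G) with hσdef
  set τ : G := (τ' : G) with hτdef
  have hσo : orderOf σ = 4 := by
    rw [hσdef, Subgroup.orderOf_coe, hσ', e.symm.orderOf_eq, DihedralGroup.orderOf_r_one]
  have hτo : orderOf τ = 2 := by
    rw [hτdef, Subgroup.orderOf_coe, hτ', e.symm.orderOf_eq, DihedralGroup.orderOf_sr]
  have hrel : τ * σ * τ⁻¹ = σ⁻¹ := by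
    have : τ' * σ' * τ'⁻¹ = σ'⁻¹ := by
      rw [hσ', hτ', ← map_mul, ← map_inv, ← map_mul, ← map_inv]
      congr 1
    simpa using congrArg Subtype.val this
  have hgen : closure ({σ, τ} : Set G) = (P : Subgroup G) := by
    refine le_antisymm ((closure_le _).2 ?_) fun x hx => ?_
    · rintro w (rfl | rfl) <;> exact SetLike.coe_mem _
    · have hsplit : ∀ d : DihedralGroup 4, ∃ j : ℕ,
          d = DihedralGroup.r 1 ^ j ∨ d = DihedralGroup.sr 0 * DihedralGroup.r 1 ^ j := by
        rintro (i | i)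
        · exact ⟨i.val, Or.inl (by rw [DihedralGroup.r_one_pow, ZMod.natCast_zmod_val])⟩
        · exact ⟨i.val, Or.inr (by
            rw [DihedralGroup.r_one_pow, ZMod.natCast_zmod_val, DihedralGroup.sr_mul_r, zero_add])⟩
      obtain ⟨j, hj⟩ := hsplit (e ⟨x, hx⟩)
      rcases hj with hj | hj
      · have : x = σ ^ j := by
          have h2 := congrArg e.symm hj
          rw [e.symm_apply_apply, map_pow] at h2
          simpa using congrArg Subtype.val h2
        rw [this]
        exact pow_mem (Subgroup.subset_closure (by simp : σ ∈ ({σ, τ} : Set G))) _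
      · have : x = τ * σ ^ j := by
          have h2 := congrArg e.symm hj
          rw [e.symm_apply_apply, map_mul, map_pow] at h2
          simpa using congrArg Subtype.val h2
        rw [this]
        exact mul_mem (Subgroup.subset_closure (by simp : τ ∈ ({σ, τ} : Set G)))
          (pow_mem (Subgroup.subset_closure (by simp : σ ∈ ({σ, τ} : Set G))) _)
  have hστ2 : σ * τ * (σ * τ) = 1 := by
    calc σ * τ * (σ * τ) = σ * (τ * σ * τ⁻¹) * (τ * τ) := by group
      _ = 1 := by rw [hrel, mul_self hτo]; group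
  have hσ1 : σ ≠ σ⁻¹ := fun e1 => by
    have h2 : σ ^ 2 = 1 := by rw [sq]; nth_rewrite 2 [e1]; rw [mul_inv_cancel]
    have := Nat.le_of_dvd two_pos (orderOf_dvd_of_pow_eq_one h2)
    omega
  have hncomm : ¬ Commute τ σ := fun e1 => hσ1 (by
    rw [← hrel, e1.eq, mul_inv_cancel_right])
  have hσto : orderOf (σ * τ) = 2 := by
    refine orderOf_eq_prime (by rw [sq, hστ2]) fun e1 => hncomm ?_
    rw [mul_eq_one_iff_eq_inv.1 e1]
    exact (Commute.refl τ).inv_right
  set z := σ ^ 2 with hzdef
  have hzo : orderOf z = 2 := by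
    rw [hzdef, orderOf_pow' σ two_ne_zero, hσo]; rfl
  have hzσ : Commute z σ := Commute.pow_left (Commute.refl σ) 2
  have hzτ : Commute z τ := by
    have h2 : τ * z * τ⁻¹ = z := by
      rw [hzdef, ← conj_pow, hrel, inv_pow]
      exact inv_self hzo
    exact (mul_inv_eq_iff_eq_mul.1 h2).symm
  have hτz : τ ≠ z := fun e1 => hncomm (e1 ▸ hzσ)
  have hστz : σ * τ ≠ z := fun e1 => hncomm (by
    have h2 : τ = σ := by
      rw [hzdef, sq] at e1
      exact mul_left_cancel e1
    rw [h2])
  -- the formula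
  obtain ⟨M, hM⟩ := H42.exists_isPModular (p := 2) Nat.prime_two
  obtain ⟨-, χ₁, χ₂, χ₃, χ', δ₁, δ₂, δ₃, hδ₁, -, -, -, hne1, -, -, -, -, -, -, hB, hval, -⟩ :=
    Cfsg.Agent.S4481.result M hM 3 le_rfl P hdih σ σ'.2 (by rw [hσo]; norm_num)
      (Complex.exp (2 * Real.pi * Complex.I / ((2 ^ (3 - 1) : ℕ) : ℂ)))
      (Complex.isPrimitiveRoot_exp (2 ^ (3 - 1)) (by norm_num))
  have hχB : χ₁ ∈ Cfsg.principalBlock M G := by rw [hB]; exact Or.inr (Or.inl rfl)
  obtain ⟨hxne, hform⟩ := Cfsg.Agent.S4482.result M hM 3 le_rfl P σ τ σ'.2 τ'.2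
    (by rw [hσo]; norm_num) hτo hrel hgen
    ⟨hone _ _ (by norm_num; exact hzo) hτo, hone _ _ (by norm_num; exact hzo) hσto⟩ χ₁ hχB hne1
    δ₁ hδ₁ (fun l h1 h2 => (hval l h1 h2).1)
  rw [show (2 : ℕ) ^ (3 - 2) = 2 from rfl, ← hzdef] at hform
  have hPC : (P : Subgroup G) ≤ centralizer ({z} : Set G) := by
    rw [← hgen, closure_le]
    rintro w (rfl | rfl)
    · exact mem_centralizer_singleton_iff.2 hzσ.eq.symm
    · exact mem_centralizer_singleton_iff.2 hzτ.eq.symm
  obtain ⟨m, hm⟩ : 8 ∣ Nat.card (centralizer ({z} : Set G)) :=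
    hP8 ▸ Subgroup.card_dvd_of_le hPC
  have hz1 : z ≠ 1 := fun e1 => by rw [e1, orderOf_one] at hzo; omega
  have hmle : 8 * m ≤ 315 := hm ▸ h.card_centralizer_le hz1
  have hm315 : m ∣ 315 := by
    have := h.card_dvd (centralizer ({z} : Set G))
    rw [hm] at this
    exact Nat.dvd_of_mul_dvd_mul_left (by norm_num : 0 < 8) (by simpa using this)
  have hfour : ∀ t, orderOf t = 2 → Commute z t → t ≠ z →
      ∃ c ∈ m.divisors, Nat.card (centralizer ({z, t} : Set G)) = 4 * c := by
    intro t ht hzt htz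
    set C1 := centralizer ({z, t} : Set G)
    have hz1C : z ∈ C1 := mem_centralizer_iff.2 fun v hv => by
      rcases hv with rfl | rfl
      · rfl
      · exact hzt.eq.symm
    have ht1C : t ∈ C1 := mem_centralizer_iff.2 fun v hv => by
      rcases hv with rfl | rfl
      · exact hzt.eq
      · rfl
    obtain ⟨c, hc⟩ := four_dvd_card hzo ht hzt htz.symm hz1C ht1C
    refine ⟨c, Nat.mem_divisors.2 ⟨?_, fun e1 => by
      rw [e1, mul_zero] at hm; exact Nat.card_pos.ne' hm⟩, hc⟩
    have hd := Subgroup.card_dvd_of_le (show C1 ≤ centralizer ({z} : Set G) from centralizer_le (by simp))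
    rw [hc, hm, show 8 * m = 4 * (2 * m) by ring] at hd
    have hodd : ¬ 2 ∣ c := by
      rintro ⟨c', rfl⟩
      obtain ⟨R, hR⟩ := Sylow.exists_subgroup_card_pow_prime 2 (G := C1) (n := 3)
        ⟨c', by rw [hc]; ring⟩
      have hRc : Nat.card (R.map C1.subtype) = 8 := by
        rw [Subgroup.card_map_of_injective C1.subtype_injective, hR]; norm_num
      have hRi : (R.map C1.subtype).index = 315 := by
        have := (R.map C1.subtype).card_mul_index
        rw [hRc, h.card] at this; omega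
      let SR : Sylow 2 G := (IsPGroup.of_card (n := 3) (by rw [hRc]; norm_num)).toSylow
        (by rw [hRi]; norm_num)
      have hSR : (SR : Subgroup G) = R.map C1.subtype := IsPGroup.toSylow_coe _ _
      have hin : ∀ w : G, orderOf w = 2 → (∀ c ∈ C1, Commute w c) → w ∈ (SR : Subgroup G) := by
        intro w hw hwc
        have hle : zpowers w ≤ normalizer ((SR : Subgroup G) : Set G) := by
          rw [zpowers_le]
          refine centralizer_le_normalizer _ (mem_centralizer_iff.2 fun v hv => ?_)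
          rw [hSR] at hv
          obtain ⟨v', -, rfl⟩ := hv
          exact (hwc v' v'.2).eq.symm
        have hJ := (IsPGroup.of_card (p := 2) (n := 1) (G := zpowers w)
          (by rw [Nat.card_zpowers, hw, pow_one])).to_sup_of_normal_right' SR.2 hle
        exact SR.3 hJ le_sup_right ▸ mem_sup_left (mem_zpowers w)
      have hzR := hin z hzo fun c hc => mem_centralizer_iff.1 hc z (Or.inl rfl)
      have htR := hin t ht fun c hc => mem_centralizer_iff.1 hc t (Or.inr rfl)
      obtain ⟨E⟩ : Nonempty ((SR : Subgroup G) ≃* DihedralGroup 4) := ⟨(Sylow.equiv SR P).trans e⟩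
      have hcen : ∀ w : (SR : Subgroup G), (∀ c ∈ C1, Commute (w : G) c) →
          ∀ x, E w * x = x * E w := by
        intro w hw x
        obtain ⟨x, rfl⟩ := E.surjective x
        rw [← map_mul, ← map_mul]
        congr 1
        apply Subtype.ext
        obtain ⟨x', -, hx'⟩ := (SetLike.ext_iff.1 hSR (x : G)).1 x.2
        simpa using (hx' ▸ hw x' x'.2 : Commute (w : G) (x : G)).eq
      have hne : ∀ w : (SR : Subgroup G), orderOf (w : G) = 2 → E w ≠ 1 := fun w hw e1 => by
        rw [EmbeddingLike.map_eq_one_iff.1 e1, Subgroup.coe_one, orderOf_one] at hw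
        omega
      exact htz (congrArg Subtype.val (E.injective (center_dihedral_four (E ⟨t, htR⟩) (E ⟨z, hzR⟩)
        (hcen _ fun c hc => mem_centralizer_iff.1 hc t (Or.inr rfl))
        (hcen _ fun c hc => mem_centralizer_iff.1 hc z (Or.inl rfl)) (hne _ ht) (hne _ hzo))))
    exact (Nat.Coprime.dvd_mul_left ((Nat.prime_two.coprime_iff_not_dvd.2 hodd).symm)).1
      (Nat.dvd_of_mul_dvd_mul_left (by norm_num : 0 < 4) hd)
  have hzστ : Commute z (σ * τ) := hzσ.mul_right hzτ
  obtain ⟨a, ham, ha⟩ := hfour τ hτo hzτ hτz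
  obtain ⟨b, hbm, hb⟩ := hfour (σ * τ) hσto hzστ hστz
  rw [h.card, hm, ha, hb] at hform
  set x := Cfsg.charDegree (χ₁ : G → ℂ) with hxdef
  have hx1 : χ₁ ≠ H26.oneIrr G := fun e1 => hne1 (by
    rw [e1]; funext g; simp [H26.oneIrr_val])
  have hxd : x ∈ Nat.divisors 2520 :=
    Nat.mem_divisors.2 ⟨h.card ▸ H44.charDegree_dvd_card χ₁, by norm_num⟩
  have hxx : x * x < 2520 := by
    rw [← sq, ← h.card]; exact H44.charDegree_sq_lt_card χ₁ hx1
  have ha0 : (a : ℚ) ≠ 0 := Nat.cast_ne_zero.2 (Nat.pos_of_mem_divisors ham).ne'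
  have hb0 : (b : ℚ) ≠ 0 := Nat.cast_ne_zero.2 (Nat.pos_of_mem_divisors hbm).ne'
  have hsol : (x ≠ 1 ∧
      2520 * ((x : ℤ) - 1) ^ 2 * a ^ 2 * b ^ 2 = 64 * x * (x + 1) * m ^ 3 * (a + b) ^ 2) ∨
      2520 * ((x : ℤ) + 1) ^ 2 * a ^ 2 * b ^ 2 = 64 * x * (x - 1) * m ^ 3 * (a + b) ^ 2 := by
    push_cast at hform
    field_simp at hform
    rcases hδ₁ with rfl | rfl
    · refine Or.inl ⟨fun e1 => hxne (by rw [e1]; rfl), ?_⟩
      have : (2520 * ((x : ℚ) - 1) ^ 2 * a ^ 2 * b ^ 2) =
          64 * x * (x + 1) * m ^ 3 * (a + b) ^ 2 := by push_cast at hform; linarith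
      exact_mod_cast this
    · refine Or.inr ?_
      have : (2520 * ((x : ℚ) + 1) ^ 2 * a ^ 2 * b ^ 2) =
          64 * x * (x - 1) * m ^ 3 * (a + b) ^ 2 := by push_cast at hform; linarith
      exact_mod_cast this
  have key := degree_solutions x hxd hxx m (Nat.mem_divisors.2 ⟨hm315, by norm_num⟩) hmle a ham b hbm hsol
  have hall : ∀ t : G, ∀ w : G, Nat.card (centralizer ({z, t} : Set G)) * 2 =
      Nat.card (centralizer ({z} : Set G)) → Commute z w → Odd (orderOf w) → Commute w t := by
    intro t w hi hw hodd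
    set C := centralizer ({z} : Set G)
    set C1 := centralizer ({z, t} : Set G)
    have hle : C1 ≤ C := centralizer_le (by simp)
    have hi2 : (C1.subgroupOf C).index = 2 := by
      have hm2 := (C1.subgroupOf C).card_mul_index
      rw [Nat.card_congr (subgroupOfEquivOfLe hle).toEquiv, ← hi] at hm2
      exact Nat.eq_of_mul_eq_mul_left Nat.card_pos hm2
    obtain ⟨l, hl⟩ := hodd
    have hw2 : w ^ 2 ∈ C1 :=
      Subgroup.sq_mem_of_index_two hi2 (⟨w, mem_centralizer_singleton_iff.2 hw.eq.symm⟩ : C)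
    have hw1 : w ∈ C1 := by
      have : (w ^ 2) ^ (l + 1) = w := by
        rw [← pow_mul, show 2 * (l + 1) = orderOf w + 1 by omega, pow_succ, pow_orderOf_eq_one, one_mul]
      exact this ▸ pow_mem hw2 _
    exact (mem_centralizer_iff.1 hw1 t (Or.inr rfl)).symm
  have hPw : ∀ w : G, Commute w τ → Commute w (σ * τ) →
      (P : Subgroup G) ≤ centralizer ({w} : Set G) := by
    intro w h1 h2
    rw [← hgen, closure_le]
    have h3 : Commute w σ := by
      have := h2.mul_right h1
      rwa [mul_assoc, mul_self hτo, mul_one] at this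
    rintro v (rfl | rfl)
    · exact mem_centralizer_singleton_iff.2 h3.eq.symm
    · exact mem_centralizer_singleton_iff.2 h1.eq.symm
  rcases key with ⟨rfl, ⟨rfl, rfl⟩ | ⟨rfl, rfl⟩⟩ | ⟨rfl, rfl, rfl⟩ | ⟨rfl, rfl, rfl⟩
  · exact h.false_of_twenty_four hzo hτo hσto hτz hzτ hzστ
      (fun hc => hncomm (by
        have := (hc.symm.mul_right (Commute.refl τ))
        rwa [mul_assoc, mul_self hτo, mul_one] at this))
      hm ha hb (fun w hw => hone z w hzo hw)
  · exact h.false_of_twenty_four hzo hσto hτo hστz hzστ hzτ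
      (fun hc => hncomm (by
        have := (hc.mul_right (Commute.refl τ))
        rwa [mul_assoc, mul_self hτo, mul_one] at this))
      hm hb ha (fun w hw => hone z w hzo hw)
  · haveI : Fact (Nat.Prime 7) := ⟨by norm_num⟩
    obtain ⟨⟨w, hwC⟩, hw⟩ := exists_prime_orderOf_dvd_card' (G := centralizer ({z} : Set G)) 7
      (by rw [hm]; norm_num)
    rw [← Subgroup.orderOf_coe] at hw
    have hwz : Commute z w := (mem_centralizer_singleton_iff.1 hwC).symm
    have hodd : Odd (orderOf w) := by rw [show orderOf w = 7 from hw]; decide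
    exact h.no_seven (show orderOf w = 7 from hw) hP8 (hPw w (hall τ w (by omega) hwz hodd)
      (hall (σ * τ) w (by omega) hwz hodd))
  · haveI : Fact (Nat.Prime 5) := ⟨by norm_num⟩
    obtain ⟨⟨w, hwC⟩, hw⟩ := exists_prime_orderOf_dvd_card' (G := centralizer ({z} : Set G)) 5
      (by rw [hm]; norm_num)
    rw [← Subgroup.orderOf_coe] at hw
    have hwz : Commute z w := (mem_centralizer_singleton_iff.1 hwC).symm
    have hodd : Odd (orderOf w) := by rw [show orderOf w = 5 from hw]; decide
    exact h.no_five (show orderOf w = 5 from hw) hP8 (hPw w (hall τ w (by omega) hwz hodd)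
      (hall (σ * τ) w (by omega) hwz hodd))

end Cfsg.Agent.H68.SimpleA7
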