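import Cfsg.Agent.H68.SimpleA7.Dihedral
import Cfsg.Agent.H49.Homs
import Cfsg.Agent.S0204
import Cfsg.Agent.S1244

/-!
# Order 2520: the Sylow two-subgroup

It has two involutions; it is therefore either dihedral, which is impossible, or elementary abelian
with a normaliser transitive on its seven involutions and its own centraliser.
-/

set_option autoImplicit false
set_option linter.all false

namespace Cfsg.Agent.H68.SimpleA7

open Subgroup

variable {G : Type*} [Group G] [Finite G]

theorem Hyp.card_sylow_two (h : Hyp G) (P : Sylow 2 G) : Nat.card (P : Subgroup G) = 8 := by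
  haveI : Fact (Nat.Prime 2) := ⟨Nat.prime_two⟩
  rw [H30.card_sylow_subgroup P (a := 3) (m := 315) (by rw [h.card]; norm_num) (by norm_num)]
  norm_num

theorem Hyp.two_involutions (h : Hyp G) (P : Sylow 2 G) :
    ∃ a b : (P : Subgroup G), orderOf a = 2 ∧ orderOf b = 2 ∧ a ≠ b := by
  haveI := h.simple
  haveI : Fact (Nat.Prime 2) := ⟨Nat.prime_two⟩
  have hnc : ¬ IsCyclic G := fun hc => by
    haveI := hc
    exact h.not_comm IsCyclic.isMulCommutative
  obtain ⟨E, hE⟩ := Cfsg.Agent.S0204.result hnc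
  haveI := hE
  have hE4 : Nat.card E = 2 ^ 2 := by rw [hE.card_four]; norm_num
  obtain ⟨R, hR⟩ := (IsPGroup.of_card hE4).exists_le_sylow
  have hcard : 2 < Nat.card E := by rw [hE4]; norm_num
  haveI : Nontrivial E := Finite.one_lt_card_iff_nontrivial.1 (by omega)
  obtain ⟨x, hx⟩ : ∃ x : E, x ≠ 1 := exists_ne 1
  obtain ⟨y, hy1, hyx⟩ : ∃ y : E, y ≠ 1 ∧ y ≠ x := by
    classical
    by_contra hc
    push Not at hc
    haveI := Fintype.ofFinite E
    have hsub : (Finset.univ : Finset E) ⊆ {1, x} := fun w _ => by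
      by_cases hw : w = 1
      · simp [hw]
      · simp [hc w hw]
    have := Finset.card_le_card hsub
    rw [Finset.card_univ, ← Nat.card_eq_fintype_card] at this
    have h2 : ({1, x} : Finset E).card ≤ 2 := Finset.card_le_two
    omega
  have ho : ∀ w : E, w ≠ 1 → orderOf w = 2 := fun w hw => by
    refine orderOf_eq_prime ?_ hw
    have := Monoid.pow_exponent_eq_one w
    rwa [hE.exponent_two] at this
  let f : E →* (P : Subgroup G) :=
    (Sylow.equiv R P).toMonoidHom.comp (Subgroup.inclusion hR)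
  have hf : Function.Injective f :=
    (Sylow.equiv R P).injective.comp (Subgroup.inclusion_injective hR)
  exact ⟨f x, f y, by rw [orderOf_injective f hf, ho x hx], by rw [orderOf_injective f hf, ho y hy1],
    fun e => hyx (hf e).symm⟩

/-- The involution that is a square is fixed by the normaliser of an abelian Sylow two-subgroup. -/
theorem Hyp.exponent_two (h : Hyp G) (P : Sylow 2 G) :
    ∀ a : G, a ∈ (P : Subgroup G) → a * a = 1 := by
  haveI := h.simple
  haveI : Fact (Nat.Prime 2) := ⟨Nat.prime_two⟩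
  by_contra hcon
  push Not at hcon
  obtain ⟨a, haP, ha2⟩ := hcon
  set S := (P : Subgroup G)
  have hS8 : Nat.card S = 8 := h.card_sylow_two P
  obtain ⟨i₁, i₂, hi₁, hi₂, hne⟩ := h.two_involutions P
  set a' : S := ⟨a, haP⟩
  have ho4 : orderOf a' = 4 := by
    have hd : orderOf a' ∣ 2 ^ 3 := by
      rw [show (2 : ℕ) ^ 3 = 8 from rfl, ← hS8]; exact orderOf_dvd_natCard a'
    obtain ⟨k, hk, hk'⟩ := (Nat.dvd_prime_pow Nat.prime_two).1 hd
    interval_cases k
    · exfalso
      rw [pow_zero, orderOf_eq_one_iff] at hk'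
      exact ha2 (by
        have := congrArg Subtype.val hk'
        change a = 1 at this
        rw [this, one_mul])
    · exfalso
      have := pow_orderOf_eq_one a'
      rw [hk', pow_one, sq] at this
      exact ha2 (congrArg Subtype.val this)
    · simpa using hk'
    · exfalso
      haveI hcyc : IsCyclic S := isCyclic_of_orderOf_eq_card a' (by rw [hk', hS8]; norm_num)
      classical
      haveI := Fintype.ofFinite S
      refine hne (Finset.card_le_one.1
        (le_of_eq (?_ : (Finset.univ.filter fun i : S => orderOf i = 2).card = 1))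
        i₁ (Finset.mem_filter.2 ⟨Finset.mem_univ _, hi₁⟩)
        i₂ (Finset.mem_filter.2 ⟨Finset.mem_univ _, hi₂⟩))
      rw [IsCyclic.card_orderOf_eq_totient (by rw [← Nat.card_eq_fintype_card, hS8]; norm_num)]
      decide
  set A := zpowers a'
  have hA4 : Nat.card A = 4 := by rw [Nat.card_zpowers, ho4]
  have hA2 : A.index = 2 := by
    have := A.card_mul_index
    rw [hA4, hS8] at this
    omega
  haveI hAn : A.Normal := normal_of_index_eq_two hA2
  have hz2 : orderOf (a' ^ 2) = 2 := by rw [orderOf_pow' a' two_ne_zero, ho4]; rfl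
  have hAcases : ∀ w ∈ A, w = 1 ∨ w = a' ∨ w = a' ^ 2 ∨ w = a'⁻¹ := by
    intro w hw
    obtain ⟨l, rfl⟩ := mem_zpowers_iff.1 hw
    have h4 : a' ^ (4 : ℤ) = 1 := by
      rw [show (4 : ℤ) = ((4 : ℕ) : ℤ) from rfl, zpow_natCast, ← ho4, pow_orderOf_eq_one]
    have hl : a' ^ l = a' ^ (l % 4) := by
      conv_lhs => rw [← Int.emod_add_mul_ediv l 4, zpow_add, zpow_mul, h4, one_zpow, mul_one]
    rcases (by omega : l % 4 = 0 ∨ l % 4 = 1 ∨ l % 4 = 2 ∨ l % 4 = 3) with e | e | e | e <;> rw [hl, e]
    · exact Or.inl (zpow_zero a')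
    · exact Or.inr (Or.inl (zpow_one a'))
    · exact Or.inr (Or.inr (Or.inl (zpow_ofNat a' 2)))
    · refine Or.inr (Or.inr (Or.inr ?_))
      rw [eq_inv_iff_mul_eq_one, ← zpow_add_one]; exact h4
  have hinvA : ∀ w ∈ A, orderOf w = 2 → w = a' ^ 2 := by
    intro w hw hw2
    rcases hAcases w hw with e | e | e | e
    · rw [e, orderOf_one] at hw2; omega
    · rw [e, ho4] at hw2; omega
    · exact e
    · rw [e, orderOf_inv, ho4] at hw2; omega
  obtain ⟨b, hb, hbA⟩ : ∃ b : S, orderOf b = 2 ∧ b ∉ A := by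
    by_contra hc
    push Not at hc
    exact hne ((hinvA i₁ (hc i₁ hi₁) hi₁).trans (hinvA i₂ (hc i₂ hi₂) hi₂).symm)
  have hbb : b * b = 1 := by rw [← sq, ← hb, pow_orderOf_eq_one]
  have hgen : ∀ w : S, ∃ j : ℤ, w = a' ^ j ∨ w = b * a' ^ j := by
    intro w
    by_cases hw : w ∈ A
    · obtain ⟨j, rfl⟩ := mem_zpowers_iff.1 hw; exact ⟨j, Or.inl rfl⟩
    · obtain ⟨j, hj⟩ := mem_zpowers_iff.1 (show b * w ∈ A from
        (mul_mem_iff_of_index_two hA2).2 (iff_of_false hbA hw))
      exact ⟨j, Or.inr (by rw [hj, ← mul_assoc, hbb, one_mul])⟩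
  rcases hAcases (b * a' * b⁻¹) (hAn.conj_mem a' (mem_zpowers a') b) with e | e | e | e
  · rw [conj_eq_one_iff] at e
    rw [e, orderOf_one] at ho4; omega
  · -- the abelian case
    have hba : Commute b a' := mul_inv_eq_iff_eq_mul.1 e
    have hcomm : ∀ u v : S, Commute u v := by
      intro u v
      obtain ⟨i, hi⟩ := hgen u
      obtain ⟨j, hj⟩ := hgen v
      rcases hi with rfl | rfl <;> rcases hj with rfl | rfl
      · exact Commute.zpow_zpow (Commute.refl a') i j
      · exact (hba.symm.zpow_left i).mul_right (Commute.zpow_zpow (Commute.refl a') i j)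
      · exact (hba.zpow_right j).mul_left (Commute.zpow_zpow (Commute.refl a') i j)
      · exact ((Commute.refl b).mul_right (hba.zpow_right j)).mul_left
          ((hba.symm.zpow_left i).mul_right (Commute.zpow_zpow (Commute.refl a') i j))
    haveI hSc : IsMulCommutative S := ⟨⟨fun u v => hcomm u v⟩⟩
    have hsq : ∀ u : S, u * u = 1 ∨ u * u = a' ^ 2 := by
      intro u
      obtain ⟨j, rfl | rfl⟩ := hgen u
      · rcases hAcases _ (zpow_mem (mem_zpowers a') j) with w | w | w | w <;> rw [w]
        · exact Or.inl (one_mul 1)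
        · exact Or.inr (sq a').symm
        · exact Or.inl (mul_self hz2)
        · refine Or.inr ?_
          rw [← mul_inv_rev, ← sq]
          exact inv_self hz2
      · have hu : b * a' ^ j * (b * a' ^ j) = a' ^ j * a' ^ j := by
          rw [sq_mul_of_commute (hba.zpow_right j), hbb, one_mul]
        rw [hu]
        rcases hAcases _ (zpow_mem (mem_zpowers a') j) with w | w | w | w <;> rw [w]
        · exact Or.inl (one_mul 1)
        · exact Or.inr (sq a').symm
        · exact Or.inl (mul_self hz2)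
        · refine Or.inr ?_
          rw [← mul_inv_rev, ← sq]
          exact inv_self hz2
    have hidx : ∀ H : Subgroup G, H.index ≠ 2 := by
      intro H hH
      haveI := normal_of_index_eq_two hH
      rcases IsSimpleGroup.eq_bot_or_eq_top_of_normal H inferInstance with rfl | rfl
      · rw [index_bot, h.card] at hH; omega
      · rw [index_top] at hH; omega
    set R : Subgroup G := zpowers (a * a) with hRdef
    have hzz : orderOf (a * a) = 2 := by
      have := hz2
      rw [← Subgroup.orderOf_coe] at this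
      simpa [a', sq] using this
    have hR2 : Nat.card R = 2 := by rw [Nat.card_zpowers, hzz]
    have hrS : Cfsg.PRankLE 2 2 S ∧ ¬ Cfsg.PRankLE 2 (2 - 1) S := by
      refine ⟨fun B _ hB => ?_, fun hle => ?_⟩
      · by_contra hgt
        have hd := Subgroup.card_subgroup_dvd_card B
        rw [hS8] at hd
        have : Nat.card B ∈ Nat.divisors 8 := Nat.mem_divisors.2 ⟨hd, by norm_num⟩
        have h8 : ∀ n ∈ Nat.divisors 8, 4 < n → n = 8 := by decide +kernel
        have hB8 := h8 _ this (by omega)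
        have hBtop : B = ⊤ := Subgroup.eq_top_of_card_eq _ (by rw [hB8, hS8])
        have := hB a' (hBtop ▸ mem_top a')
        rw [this, orderOf_one] at hz2
        omega
      · let V : Subgroup S :=
          { carrier := {w | w * w = 1}
            mul_mem' := fun {u v} hu hv => by
              show u * v * (u * v) = 1
              rw [sq_mul_of_commute (hcomm u v), show u * u = 1 from hu, show v * v = 1 from hv, one_mul]
            one_mem' := one_mul 1
            inv_mem' := fun {u} hu => by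
              show u⁻¹ * u⁻¹ = 1
              rw [← mul_inv_rev, show u * u = 1 from hu, inv_one] }
        have h4 : 4 ∣ Nat.card V := by
          refine four_dvd_card hz2 hb (hba.symm.pow_left 2) (fun e2 => hbA ?_) ?_ hbb
          · rw [← e2]; exact pow_mem (mem_zpowers a') 2
          · show a' ^ 2 * a' ^ 2 = 1
            exact mul_self hz2
        have hV := hle V ⟨⟨fun u v => Subtype.ext (hcomm u v)⟩⟩ (fun w hw => by rw [sq]; exact hw)
        have := Nat.le_of_dvd Nat.card_pos h4
        omega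
    have hRr : Cfsg.PRankLE 2 (2 - 1) R ∧ ((2 : ℕ) = 1 ∨ ¬ Cfsg.PRankLE 2 (2 - 2) R) := by
      refine ⟨fun B _ _ => (Subgroup.card_le_card_group B).trans (by rw [hR2]; norm_num), Or.inr fun hle => ?_⟩
      have := hle ⊤ ⟨⟨fun u v => mul_comm' u v⟩⟩ (fun w _ => by
        rw [← hR2]; exact pow_card_eq_one')
      rw [Subgroup.card_top, hR2] at this
      norm_num at this
    have hb' : orderOf (b : G) = 2 := by rw [Subgroup.orderOf_coe]; exact hb
    obtain ⟨n, hn, hnb⟩ := Cfsg.Agent.S1244.result hidx P hSc 2 (by norm_num) hrS R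
      (zpowers_le.2 (mul_mem haP haP)) hRr (b : G) hb' b.2
    have hnbz : n * (b : G) * n⁻¹ = a * a := by
      obtain ⟨l, hl⟩ := mem_zpowers_iff.1 hnb
      rcases Int.even_or_odd l with ⟨j, rfl⟩ | ⟨j, rfl⟩
      · rw [← two_mul, zpow_mul, zpow_ofNat, ← hzz, pow_orderOf_eq_one, one_zpow] at hl
        have := conj_orderOf n (b : G)
        rw [← hl, orderOf_one, hb'] at this
        omega
      · rw [zpow_add, zpow_mul, zpow_ofNat, ← hzz, pow_orderOf_eq_one, one_zpow, one_mul, zpow_one] at hl
        exact hl.symm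
    have hn' : n⁻¹ * a * n ∈ S := by
      simpa using (Subgroup.mem_normalizer_iff.1 (inv_mem hn) a).1 haP
    have hfix : (⟨n⁻¹ * a * n, hn'⟩ : S) * ⟨n⁻¹ * a * n, hn'⟩ = b := by
      apply Subtype.ext
      show n⁻¹ * a * n * (n⁻¹ * a * n) = (b : G)
      calc n⁻¹ * a * n * (n⁻¹ * a * n) = n⁻¹ * (a * a) * n := by group
        _ = b := by rw [← hnbz]; group
    rcases hsq ⟨n⁻¹ * a * n, hn'⟩ with w | w
    · rw [hfix] at w
      rw [w, orderOf_one] at hb; omega
    · rw [hfix] at w
      exact hbA (w ▸ pow_mem (mem_zpowers a') 2)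
  · have := congrArg orderOf e
    rw [conj_orderOf, ho4, hz2] at this
    omega
  · -- the dihedral case
    refine h.not_dihedral P ((Subgroup.topEquiv (G := S)).symm.trans
      (H49.nonempty_equiv_dihedral (⊤ : Subgroup S) (m := 4) (mem_top a') (mem_top b)
        (by rw [Subgroup.card_top, hS8]) ho4 hbb e hbA).some)

theorem card_range_conj (N : Subgroup G) (t : G) :
    (Set.range fun n : N => (n : G) * t * (n : G)⁻¹).ncard *
      Nat.card (N ⊓ centralizer ({t} : Set G) : Subgroup G) = Nat.card N := by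
  set K := (centralizer ({t} : Set G)).subgroupOf N
  have hK : Nat.card K = Nat.card (N ⊓ centralizer ({t} : Set G) : Subgroup G) := by
    rw [Nat.card_congr (K.equivMapOfInjective _ N.subtype_injective).toEquiv,
      Subgroup.subgroupOf_map_subtype, inf_comm]
  rw [← hK, ← Nat.card_coe_set_eq, ← K.index_mul_card, Subgroup.index_eq_card]
  congr 1
  refine (Nat.card_congr (Equiv.ofBijective
    (fun q : N ⧸ K => (⟨Quotient.liftOn' q (fun n : N => (n : G) * t * (n : G)⁻¹) fun n m hnm => ?_, ?_⟩ :
      Set.range fun n : N => (n : G) * t * (n : G)⁻¹)) ⟨?_, ?_⟩)).symm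
  · rw [QuotientGroup.leftRel_apply, Subgroup.mem_subgroupOf, mem_centralizer_singleton_iff] at hnm
    simp only [Subgroup.coe_mul, Subgroup.coe_inv] at hnm
    calc (n : G) * t * (n : G)⁻¹ = (n : G) * (t * ((n : G)⁻¹ * m)) * (m : G)⁻¹ := by group
      _ = (n : G) * ((n : G)⁻¹ * m * t) * (m : G)⁻¹ := by rw [hnm]
      _ = _ := by group
  · induction q using Quotient.inductionOn' with
    | h n => exact ⟨n, rfl⟩
  · intro q q'
    induction q using QuotientGroup.induction_on with
    | H n =>
    induction q' using QuotientGroup.induction_on with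
    | H m =>
    intro e
    have e' : (n : G) * t * (n : G)⁻¹ = (m : G) * t * (m : G)⁻¹ := congrArg Subtype.val e
    rw [QuotientGroup.eq, Subgroup.mem_subgroupOf, mem_centralizer_singleton_iff]
    simp only [Subgroup.coe_mul, Subgroup.coe_inv]
    calc (n : G)⁻¹ * m * t = (n : G)⁻¹ * ((m : G) * t * (m : G)⁻¹) * m := by group
      _ = (n : G)⁻¹ * ((n : G) * t * (n : G)⁻¹) * m := by rw [e']
      _ = _ := by group
  · rintro ⟨_, n, rfl⟩
    exact ⟨QuotientGroup.mk n, rfl⟩

/-- The normaliser is transitive on the involutions. -/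
theorem Hyp.transitive (h : Hyp G) (P : Sylow 2 G) {t u : G} (ht : t ∈ (P : Subgroup G))
    (ht1 : t ≠ 1) (hu : u ∈ (P : Subgroup G)) (hu1 : u ≠ 1) :
    ∃ n ∈ normalizer ((P : Subgroup G) : Set G), n * t * n⁻¹ = u := by
  classical
  haveI := h.simple
  haveI : Fact (Nat.Prime 2) := ⟨Nat.prime_two⟩
  set S := (P : Subgroup G)
  set N := normalizer (S : Set G)
  have hS8 : Nat.card S = 8 := h.card_sylow_two P
  have hexp := h.exponent_two P
  have hcomm : ∀ a ∈ S, ∀ b ∈ S, Commute a b := fun a ha b hb => by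
    have h1 := hexp _ (mul_mem ha hb)
    have h2 := hexp a ha
    have h3 := hexp b hb
    show a * b = b * a
    calc a * b = (a * a) * (b * a) * (b * b) := by
          rw [show (a * a) * (b * a) * (b * b) = a * ((a * b) * (a * b)) * b by group, h1, mul_one]
      _ = b * a := by rw [h2, h3, one_mul, mul_one]
  haveI hSc : IsMulCommutative S := ⟨⟨fun u v => Subtype.ext (hcomm u u.2 v v.2)⟩⟩
  set T : Set G := (S : Set G) \ {1}
  have hT : T.ncard = 7 := by
    rw [Set.ncard_diff_singleton_of_mem (one_mem S), ← Nat.card_coe_set_eq]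
    show Nat.card S - 1 = 7
    rw [hS8]
  let O : G → Set G := fun w => Set.range fun n : N => (n : G) * w * (n : G)⁻¹
  have hOT : ∀ w ∈ T, O w ⊆ T := by
    rintro w ⟨hw, hw1⟩ _ ⟨n, rfl⟩
    exact ⟨(Subgroup.mem_normalizer_iff.1 n.2 w).1 hw, fun e => hw1 (conj_eq_one_iff.1 e)⟩
  have hSN : S ≤ N := le_normalizer
  have hN8 : ∃ k, Nat.card N = 8 * k ∧ k ∣ 315 := by
    obtain ⟨k, hk⟩ : 8 ∣ Nat.card N := hS8 ▸ Subgroup.card_dvd_of_le hSN
    exact ⟨k, hk, Nat.dvd_of_mul_dvd_mul_left (by norm_num : 0 < 8) (by rw [← hk]; exact h.card_dvd N)⟩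
  obtain ⟨k, hk, hk315⟩ := hN8
  have hodd : ∀ w ∈ T, ¬ 2 ∣ (O w).ncard := by
    intro w hw h2
    have hle : S ≤ N ⊓ centralizer ({w} : Set G) := le_inf hSN fun a ha =>
      mem_centralizer_singleton_iff.2 (hcomm a ha w hw.1).eq
    obtain ⟨l, hl⟩ : 8 ∣ Nat.card (N ⊓ centralizer ({w} : Set G) : Subgroup G) :=
      hS8 ▸ Subgroup.card_dvd_of_le hle
    have hm := card_range_conj N w
    rw [hl, hk] at hm
    have : (O w).ncard * l = k := by
      have e8 : 8 * ((O w).ncard * l) = 8 * k := by rw [← hm]; ring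
      omega
    have := (h2.trans (Dvd.intro _ this)).trans hk315
    omega
  have hidx : ∀ H : Subgroup G, H.index ≠ 2 := by
    intro H hH
    haveI := normal_of_index_eq_two hH
    rcases IsSimpleGroup.eq_bot_or_eq_top_of_normal H inferInstance with rfl | rfl
    · rw [index_bot, h.card] at hH; omega
    · rw [index_top] at hH; omega
  have hnfix : ∀ w ∈ T, (O w).ncard ≠ 1 := by
    intro w hw h1
    obtain ⟨w', hw'⟩ := Set.ncard_eq_one.1 h1
    have hww : ∀ n ∈ N, n * w * n⁻¹ = w := fun n hn => by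
      have e1 : n * w * n⁻¹ ∈ O w := ⟨⟨n, hn⟩, rfl⟩
      have e2 : w ∈ O w := ⟨⟨1, one_mem N⟩, by simp⟩
      rw [hw', Set.mem_singleton_iff] at e1 e2
      exact e1.trans e2.symm
    obtain ⟨R, hRc, hwR⟩ : ∃ R : Subgroup S, Nat.card R = 4 ∧ (⟨w, hw.1⟩ : S) ∉ R := by
      have hw2 : zpowers (⟨w, hw.1⟩ : S) ≠ ⊤ := fun e => by
        have := congrArg (fun K : Subgroup S => Nat.card K) e
        simp only [Nat.card_zpowers, Subgroup.card_top, hS8] at this
        have h2 : orderOf (⟨w, hw.1⟩ : S) ≤ 2 := Nat.le_of_dvd two_pos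
          (orderOf_dvd_of_pow_eq_one (Subtype.ext (by simpa [sq] using hexp w hw.1)))
        omega
      obtain ⟨r, -, hr⟩ := SetLike.exists_of_lt (lt_top_iff_ne_top.2 hw2)
      have hr1 : r ≠ 1 := fun e => hr (e ▸ one_mem _)
      have ho : ∀ v : S, v ≠ 1 → orderOf v = 2 := fun v hv =>
        orderOf_eq_prime (Subtype.ext (by simpa [sq] using hexp v v.2)) hv
      set K := closure ({⟨w, hw.1⟩, r} : Set S)
      have hK : K ≠ ⊤ := fun e => by
        let φ : Fin 2 → Fin 2 → S := fun i j => (⟨w, hw.1⟩ : S) ^ (i : ℕ) * r ^ (j : ℕ)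
        have hcl : ∀ v ∈ K, ∃ i j, φ i j = v := by
          intro v hv
          induction hv using closure_induction with
          | mem v hv =>
            rcases hv with rfl | rfl
            · exact ⟨1, 0, by simp [φ]⟩
            · exact ⟨0, 1, by simp [φ]⟩
          | one => exact ⟨0, 0, by simp [φ]⟩
          | mul a b ha hb iha ihb =>
            obtain ⟨i, j, rfl⟩ := iha
            obtain ⟨i', j', rfl⟩ := ihb
            refine ⟨i + i', j + j', ?_⟩
            have hp : ∀ (v : S) (m n : Fin 2), v ^ ((m + n : Fin 2) : ℕ) = v ^ (m : ℕ) * v ^ (n : ℕ) := by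
              intro v m n
              rw [← pow_add]
              apply pow_eq_pow_iff_modEq.2
              refine Nat.ModEq.of_dvd (orderOf_dvd_of_pow_eq_one
                (show v ^ 2 = 1 from Subtype.ext (by simpa [sq] using hexp v v.2))) ?_
              rw [Fin.val_add]; exact Nat.mod_modEq _ _
            simp only [φ, hp]
            exact Commute.mul_mul_mul_comm (Subtype.ext (hcomm _ (pow_mem hw.1 _) _ (SetLike.coe_mem _)).eq) _ _
          | inv a ha iha =>
            obtain ⟨i, j, rfl⟩ := iha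
            refine ⟨i, j, (inv_eq_of_mul_eq_one_right ?_).symm⟩
            exact Subtype.ext (hexp _ (SetLike.coe_mem _))
        have hsur : Function.Surjective fun p : Fin 2 × Fin 2 => φ p.1 p.2 := fun v => by
          obtain ⟨i, j, hij⟩ := hcl v (e ▸ mem_top v)
          exact ⟨(i, j), hij⟩
        have := Nat.card_le_card_of_surjective _ hsur
        simp [hS8] at this
      obtain ⟨q, -, hq⟩ := SetLike.exists_of_lt (lt_top_iff_ne_top.2 hK)
      have hwK : (⟨w, hw.1⟩ : S) ∈ K := Subgroup.subset_closure (by simp)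
      have hrK : r ∈ K := Subgroup.subset_closure (by simp)
      have hq1 : q ≠ 1 := fun e => hq (e ▸ one_mem _)
      let R : Subgroup S := closure ({r, q} : Set S)
      have hcl : ∀ v ∈ R, v = 1 ∨ v = r ∨ v = q ∨ v = r * q := by
        intro v hv
        have hrr : r * r = 1 := Subtype.ext (hexp r r.2)
        have hqq : q * q = 1 := Subtype.ext (hexp q q.2)
        have hrq : r * q = q * r := Subtype.ext (hcomm r r.2 q q.2).eq
        induction hv using closure_induction with
        | mem v hv =>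
          rcases hv with rfl | rfl
          · exact Or.inr (Or.inl rfl)
          · exact Or.inr (Or.inr (Or.inl rfl))
        | one => exact Or.inl rfl
        | mul a b ha hb iha ihb =>
          have r1 : ∀ x : S, q * (r * x) = r * (q * x) := fun x => by
            rw [← mul_assoc, ← hrq, mul_assoc]
          have r2 : ∀ x : S, r * (r * x) = x := fun x => by rw [← mul_assoc, hrr, one_mul]
          have r3 : ∀ x : S, q * (q * x) = x := fun x => by rw [← mul_assoc, hqq, one_mul]
          rcases iha with rfl | rfl | rfl | rfl <;> rcases ihb with rfl | rfl | rfl | rfl <;>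
            simp [mul_assoc, r1, r2, r3, hrr, hqq, ← hrq]
        | inv a ha iha =>
          have : a⁻¹ = a := inv_eq_of_mul_eq_one_right (Subtype.ext (hexp a a.2))
          rwa [this]
      have hwR : (⟨w, hw.1⟩ : S) ∉ R := fun hwR => by
        rcases hcl _ hwR with e | e | e | e
        · exact hw.2 (congrArg Subtype.val e)
        · exact hr (e ▸ mem_zpowers _)
        · exact hq (e ▸ hwK)
        · refine hq ?_
          have : q = r⁻¹ * ⟨w, hw.1⟩ := by rw [e, inv_mul_cancel_left]
          rw [this]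
          exact mul_mem (inv_mem hrK) hwK
      have h4 : 4 ∣ Nat.card R := four_dvd_card (ho r hr1) (ho q hq1)
        (Subtype.ext (hcomm r r.2 q q.2).eq) (fun e => hq (e ▸ hrK))
        (Subgroup.subset_closure (by simp)) (Subgroup.subset_closure (by simp))
      refine ⟨R, ?_, hwR⟩
      have hd := Subgroup.card_subgroup_dvd_card R
      rw [hS8] at hd
      have h8 : Nat.card R ≠ 8 := fun e => hwR ((Subgroup.eq_top_of_card_eq _ (by rw [e, hS8])) ▸ mem_top _)
      have hle := Nat.le_of_dvd (by norm_num) hd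
      have := Nat.card_pos (α := R)
      omega
    have hrS : Cfsg.PRankLE 2 3 S ∧ ¬ Cfsg.PRankLE 2 (3 - 1) S := by
      refine ⟨fun B _ _ => (Subgroup.card_le_card_group B).trans (by rw [hS8]; norm_num), fun hle => ?_⟩
      have := hle ⊤ ⟨⟨fun u v => Subtype.ext (Subtype.ext (hcomm _ u.1.2 _ v.1.2))⟩⟩
        (fun v _ => Subtype.ext (by simpa [sq] using hexp v v.2))
      rw [Subgroup.card_top, hS8] at this
      norm_num at this
    set R' := R.map S.subtype
    have hR' : Nat.card R' = 4 := by rw [Subgroup.card_map_of_injective S.subtype_injective, hRc]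
    have hR'S : R' ≤ S := map_subtype_le R
    have hRr : Cfsg.PRankLE 2 (3 - 1) R' ∧ ((3 : ℕ) = 1 ∨ ¬ Cfsg.PRankLE 2 (3 - 2) R') := by
      refine ⟨fun B _ _ => (Subgroup.card_le_card_group B).trans (by rw [hR']; norm_num), Or.inr fun hle => ?_⟩
      have := hle ⊤ ⟨⟨fun u v => Subtype.ext (Subtype.ext (hcomm _ (hR'S u.1.2) _ (hR'S v.1.2)))⟩⟩
        (fun v _ => Subtype.ext (by simpa [sq] using hexp v (hR'S v.2)))
      rw [Subgroup.card_top, hR'] at this
      norm_num at this
    have hw2 : orderOf w = 2 := orderOf_eq_prime (by rw [sq, hexp w hw.1]) hw.2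
    obtain ⟨n, hn, hnw⟩ := Cfsg.Agent.S1244.result hidx P hSc 3 (by norm_num) hrS R' hR'S hRr w hw2 hw.1
    rw [hww n hn] at hnw
    obtain ⟨w'', hw'', e⟩ := hnw
    exact hwR ((Subtype.ext e : w'' = ⟨w, hw.1⟩) ▸ hw'')
  have hsize : ∀ w ∈ T, 3 ≤ (O w).ncard := fun w hw => by
    have h1 := hnfix w hw
    have h2 := hodd w hw
    omega
  have hdis : ∀ v w, v ∈ T → ¬ v ∈ O w → Disjoint (O v) (O w) := by
    intro v w _ hv
    rw [Set.disjoint_left]
    rintro _ ⟨n, rfl⟩ ⟨m, hm⟩
    refine hv ⟨⟨(n : G)⁻¹ * m, mul_mem (inv_mem n.2) m.2⟩, ?_⟩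
    show (n : G)⁻¹ * m * w * ((n : G)⁻¹ * m)⁻¹ = v
    calc _ = (n : G)⁻¹ * ((m : G) * w * (m : G)⁻¹) * n := by group
      _ = (n : G)⁻¹ * ((n : G) * v * (n : G)⁻¹) * n := by rw [show (m : G) * w * (m : G)⁻¹ = _ from hm]
      _ = v := by group
  have htT : t ∈ T := ⟨ht, ht1⟩
  have huT : u ∈ T := ⟨hu, hu1⟩
  suffices hu' : u ∈ O t by
    obtain ⟨n, hn⟩ := hu'
    exact ⟨n, n.2, hn⟩
  by_contra hu'
  have hd1 := hdis u t huT hu'
  have hfin : ∀ w, (O w).Finite := fun w => Set.finite_range _
  have hcard1 : (O u ∪ O t).ncard = (O u).ncard + (O t).ncard :=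
    Set.ncard_union_eq hd1 (hfin u) (hfin t)
  have hle1 := Set.ncard_le_ncard (Set.union_subset (hOT u huT) (hOT t htT)) (Set.toFinite T)
  have := hsize u huT
  have := hsize t htT
  obtain ⟨l1, hl1⟩ : Odd (O u).ncard := Nat.odd_iff.2 (by have := hodd u huT; omega)
  obtain ⟨l2, hl2⟩ : Odd (O t).ncard := Nat.odd_iff.2 (by have := hodd t htT; omega)
  obtain ⟨v, hv, hvn⟩ : ∃ v ∈ T, v ∉ O u ∪ O t := by
    by_contra hc
    push Not at hc
    have := Set.ncard_le_ncard (show T ⊆ O u ∪ O t from hc) (Set.toFinite _)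
    omega
  rw [Set.mem_union, not_or] at hvn
  have hd2 : Disjoint (O v) (O u ∪ O t) :=
    Set.disjoint_union_right.2 ⟨hdis v u hv hvn.1, hdis v t hv hvn.2⟩
  have hcard2 : (O v ∪ (O u ∪ O t)).ncard = (O v).ncard + (O u ∪ O t).ncard :=
    Set.ncard_union_eq hd2 (hfin v) ((hfin u).union (hfin t))
  have hle2 := Set.ncard_le_ncard
    (Set.union_subset (hOT v hv) (Set.union_subset (hOT u huT) (hOT t htT))) (Set.toFinite T)
  have := hsize v hv
  omega

end Cfsg.Agent.H68.SimpleA7
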