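import Cfsg.Agent.H68.SimpleA7.Basics
import Cfsg.Agent.S3335

/-!
# Order 2520: the alternating group from the involution centraliser

With involution centralisers of order 24 of the shape found in the alternating group of degree seven,
we find Moore generators inside the group.
-/

set_option autoImplicit false
set_option linter.all false

namespace Cfsg.Agent.H68.SimpleA7

open Subgroup

variable {G : Type*} [Group G] [Finite G]

/-- The local data at an involution. -/
structure Local (G : Type*) [Group G] where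
  z : G
  τ : G
  s : G
  y : G
  hz : orderOf z = 2
  hτ : orderOf τ = 2
  hs : orderOf s = 2
  hy : orderOf y = 3
  hτz : τ ≠ z
  zτ : Commute z τ
  zy : Commute z y
  τy : Commute τ y
  zs : Commute z s
  sy : s * y * s⁻¹ = y⁻¹
  sτ : ¬ Commute s τ
  card : Nat.card (centralizer ({z} : Set G)) = 24
  core : ∀ c : G, Commute z c → c * y * c⁻¹ ∈ zpowers y
  conj : ∀ a : G, orderOf a = 2 → IsConj z a

theorem inv_self {a : G} (h : orderOf a = 2) : a⁻¹ = a := by
  refine inv_eq_of_mul_eq_one_right ?_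
  rw [← sq, ← h, pow_orderOf_eq_one]

theorem mul_self {a : G} (h : orderOf a = 2) : a * a = 1 := by
  rw [← sq, ← h, pow_orderOf_eq_one]

theorem orderOf_mul_two {a b : G} (ha : orderOf a = 2) (hb : orderOf b = 2) (hab : Commute a b)
    (hne : a ≠ b) : orderOf (a * b) = 2 := by
  refine orderOf_eq_prime ?_ fun h => hne ?_
  · rw [hab.mul_pow, sq, sq, mul_self ha, mul_self hb, one_mul]
  · rw [mul_eq_one_iff_eq_inv.1 h, inv_self hb]

theorem sq_mul_of_commute {a b : G} (hab : Commute a b) : a * b * (a * b) = a * a * (b * b) := by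
  rw [mul_assoc, ← mul_assoc b a, ← hab.eq, mul_assoc a b b, ← mul_assoc a a]

theorem mem_cyclic_three {a b : G} (ha : orderOf a = 3) (hb : b ∈ zpowers a) :
    b = 1 ∨ b = a ∨ b = a⁻¹ := by
  obtain ⟨i, rfl⟩ := mem_zpowers_iff.1 hb
  have h3 : a ^ (3 : ℤ) = 1 := by
    rw [show (3 : ℤ) = ((3 : ℕ) : ℤ) from rfl, zpow_natCast, ← ha, pow_orderOf_eq_one]
  have hi : a ^ i = a ^ (i % 3) := by
    conv_lhs => rw [← Int.emod_add_mul_ediv i 3, zpow_add, zpow_mul, h3, one_zpow, mul_one]
  rcases (by omega : i % 3 = 0 ∨ i % 3 = 1 ∨ i % 3 = 2) with e | e | e <;> rw [hi, e]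
  · exact Or.inl (zpow_zero a)
  · exact Or.inr (Or.inl (zpow_one a))
  · refine Or.inr (Or.inr ?_)
    rw [eq_inv_iff_mul_eq_one, ← zpow_add_one]; exact h3

theorem zpowers_eq_of_three {a b : G} (ha : orderOf a = 3) (hb : b ∈ zpowers a) (hb1 : b ≠ 1) :
    zpowers b = zpowers a := by
  rcases mem_cyclic_three ha hb with rfl | rfl | rfl
  · exact absurd rfl hb1
  · rfl
  · rw [zpowers_inv]

theorem conj_orderOf (g a : G) : orderOf (g * a * g⁻¹) = orderOf a :=
  orderOf_injective (MulAut.conj g).toMonoidHom (MulAut.conj g).injective a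

theorem conj_commute {a b : G} (g : G) (hab : Commute a b) : Commute (g * a * g⁻¹) (g * b * g⁻¹) :=
  hab.map (MulAut.conj g).toMonoidHom

variable (h : Hyp G) (D : Local G)

theorem Local.y_ne_one : D.y ≠ 1 := fun e => by
  have := D.hy; rw [e, orderOf_one] at this; omega

theorem Local.y_not_involution : D.y ≠ D.y⁻¹ := fun e => by
  have h2 : D.y ^ 2 = 1 := by rw [sq]; nth_rewrite 2 [e]; rw [mul_inv_cancel]
  have := Nat.le_of_dvd two_pos (orderOf_dvd_of_pow_eq_one h2)
  rw [D.hy] at this
  omega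

/-- An element of order three commuting with `z` lies in the core. -/
theorem Local.three {c : G} (hc : Commute D.z c) (hc3 : c ^ 3 = 1) : c ∈ zpowers D.y := by
  haveI : Fact (Nat.Prime 3) := ⟨Nat.prime_three⟩
  set C := centralizer ({D.z} : Set G)
  set Y := zpowers D.y
  have hN : zpowers c ≤ normalizer (Y : Set G) := by
    rw [zpowers_le]
    refine Subgroup.mem_normalizer_iff.2 fun x => ⟨fun hx => ?_, fun hx => ?_⟩
    · obtain ⟨i, rfl⟩ := mem_zpowers_iff.1 hx
      rw [← conj_zpow]
      exact zpow_mem (D.core c hc) i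
    · obtain ⟨i, hi⟩ := mem_zpowers_iff.1 hx
      have : x = (c⁻¹ * D.y * c⁻¹⁻¹) ^ i := by
        rw [conj_zpow, hi, inv_inv]; group
      rw [this]
      exact zpow_mem (D.core c⁻¹ hc.inv_right) i
  have hY : IsPGroup 3 Y := IsPGroup.of_card (n := 1) (by rw [Nat.card_zpowers, D.hy, pow_one])
  have hcp : IsPGroup 3 (zpowers c) := by
    rcases (Nat.dvd_prime Nat.prime_three).1 (orderOf_dvd_of_pow_eq_one hc3) with e | e
    · exact IsPGroup.of_card (n := 0) (by rw [Nat.card_zpowers, e, pow_zero])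
    · exact IsPGroup.of_card (n := 1) (by rw [Nat.card_zpowers, e, pow_one])
  have hJ : IsPGroup 3 ↥(zpowers c ⊔ Y) := hcp.to_sup_of_normal_right' hY hN
  have hJC : zpowers c ⊔ Y ≤ C := sup_le
    (zpowers_le.2 (mem_centralizer_singleton_iff.2 hc.eq.symm))
    (zpowers_le.2 (mem_centralizer_singleton_iff.2 D.zy.eq.symm))
  obtain ⟨k, hk⟩ := hJ.exists_card_eq
  have hd := Subgroup.card_dvd_of_le hJC
  rw [hk, D.card] at hd
  have hk1 : k ≤ 1 := by
    by_contra hk2
    have : 3 ^ 2 ∣ 24 := (pow_dvd_pow 3 (by omega)).trans hd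
    omega
  have heq : Y = zpowers c ⊔ Y := by
    refine Subgroup.eq_of_le_of_card_ge le_sup_right ?_
    rw [hk, Nat.card_zpowers, D.hy]
    exact le_trans (Nat.pow_le_pow_right (by norm_num) hk1) (by norm_num)
  rw [heq]
  exact mem_sup_left (mem_zpowers c)

/-- The same at a conjugate involution. -/
theorem Local.three_conj {g c : G} (hc : Commute (g * D.z * g⁻¹) c) (hc3 : c ^ 3 = 1) :
    c ∈ zpowers (g * D.y * g⁻¹) := by
  have h1 : Commute D.z (g⁻¹ * c * g⁻¹⁻¹) := by
    have := conj_commute g⁻¹ hc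
    simpa [mul_assoc] using this
  obtain ⟨i, hi⟩ := mem_zpowers_iff.1 (D.three h1 (by rw [conj_pow, hc3]; group))
  exact mem_zpowers_iff.2 ⟨i, by rw [conj_zpow, hi]; group⟩

/-- The normaliser of the core. -/
theorem Local.card_normalizer_core (h : Hyp G) :
    Nat.card (centralizer ({D.y} : Set G)) = 36 ∧
      Nat.card (normalizer (zpowers D.y : Set G)) = 72 := by
  haveI : Fact (Nat.Prime 3) := ⟨Nat.prime_three⟩
  set C := centralizer ({D.y} : Set G)
  set N := normalizer (zpowers D.y : Set G)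
  have hCN : C ≤ N := by
    intro c hc
    have hc' : centralizer ({D.y} : Set G) = centralizer (zpowers D.y : Set G) := by
      rw [zpowers_eq_closure, centralizer_closure]
    exact Subgroup.centralizer_le_normalizer _ (hc' ▸ hc)
  have hcc : centralizer (zpowers D.y : Set G) = C := by
    rw [zpowers_eq_closure, centralizer_closure]
  have hY : IsPGroup 3 (zpowers D.y) :=
    IsPGroup.of_card (n := 1) (by rw [Nat.card_zpowers, D.hy, pow_one])
  obtain ⟨P, hP⟩ := hY.exists_le_sylow
  have hP9 : Nat.card (P : Subgroup G) = 3 ^ 2 :=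
    H30.card_sylow_subgroup P (m := 280) (by rw [h.card]; norm_num) (by norm_num)
  have hPC : (P : Subgroup G) ≤ C := fun x hx => mem_centralizer_singleton_iff.2
    (congrArg Subtype.val (IsPGroup.commutative_of_card_eq_prime_sq hP9
      (⟨x, hx⟩ : (P : Subgroup G)) ⟨D.y, hP (mem_zpowers _)⟩))
  have h9 : 9 ∣ Nat.card C := by
    have := Subgroup.card_dvd_of_le hPC
    rwa [hP9] at this
  have h4 : 4 ∣ Nat.card C := by
    have hk : (closure ({D.z, D.τ} : Set G)) ≤ C := by
      rw [closure_le]
      rintro x (rfl | rfl)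
      · exact mem_centralizer_singleton_iff.2 D.zy.eq
      · exact mem_centralizer_singleton_iff.2 D.τy.eq
    refine dvd_trans ?_ (Subgroup.card_dvd_of_le hk)
    set V := closure ({D.z, D.τ} : Set G)
    have hzV : D.z ∈ V := subset_closure (Or.inl rfl)
    have hτV : D.τ ∈ V := subset_closure (Or.inr rfl)
    have h2 : 2 ∣ (zpowers D.z).relIndex V := by
      have hm := Subgroup.relIndex_mul_index (zpowers_le.2 hzV)
      by_contra hodd
      have hcomm : ∀ x ∈ V, Commute D.z x := fun x hx => by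
        have : V ≤ centralizer ({D.z} : Set G) := by
          rw [closure_le]
          rintro w (rfl | rfl)
          · exact mem_centralizer_singleton_iff.2 rfl
          · exact mem_centralizer_singleton_iff.2 D.zτ.eq.symm
        exact (mem_centralizer_singleton_iff.1 (this hx)).symm
      haveI : ((zpowers D.z).subgroupOf V).Normal := by
        refine ⟨fun n hn v => ?_⟩
        obtain ⟨i, hi⟩ := mem_zpowers_iff.1 (Subgroup.mem_subgroupOf.1 hn)
        have e : v * n * v⁻¹ = n := by
          apply Subtype.ext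
          rw [Subgroup.coe_mul, Subgroup.coe_mul, Subgroup.coe_inv, ← hi,
            ((hcomm v v.2).zpow_left i).eq.symm, mul_inv_cancel_right]
        rwa [e]
      have : (QuotientGroup.mk (⟨D.τ, hτV⟩ : V) : V ⧸ (zpowers D.z).subgroupOf V) = 1 := by
        rw [← orderOf_eq_one_iff]
        refine Nat.eq_one_of_dvd_coprimes (a := 2) (b := (zpowers D.z).relIndex V)
          ((Nat.prime_two.coprime_iff_not_dvd).2 hodd) ?_ ?_
        · refine (orderOf_map_dvd (QuotientGroup.mk' ((zpowers D.z).subgroupOf V)) _).trans ?_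
          rw [← Subgroup.orderOf_coe, D.hτ]
        · exact orderOf_dvd_natCard _
      rw [QuotientGroup.eq_one_iff, Subgroup.mem_subgroupOf] at this
      have hzp : D.τ ∈ zpowers D.z := this
      obtain ⟨i, hi⟩ := mem_zpowers_iff.1 hzp
      rcases Int.even_or_odd i with ⟨j, rfl⟩ | ⟨j, rfl⟩
      · rw [← two_mul, zpow_mul, zpow_ofNat, sq, mul_self D.hz, one_zpow] at hi
        have := D.hτ
        rw [← hi, orderOf_one] at this
        omega
      · rw [zpow_add, zpow_mul, zpow_ofNat, sq, mul_self D.hz, one_zpow, one_mul, zpow_one] at hi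
        exact D.hτz hi.symm
    have hm := Subgroup.card_mul_index ((zpowers D.z).subgroupOf V)
    rw [Nat.card_congr (subgroupOfEquivOfLe (zpowers_le.2 hzV)).toEquiv, Nat.card_zpowers, D.hz] at hm
    rw [← hm]
    exact mul_dvd_mul_left 2 h2
  have h36 : 36 ∣ Nat.card C := Nat.Coprime.mul_dvd_of_dvd_of_dvd (by norm_num : Nat.Coprime 4 9) h4 h9
  have hsN : D.s ∈ N := by
    refine Subgroup.mem_normalizer_iff.2 fun x => ⟨fun hx => ?_, fun hx => ?_⟩
    · obtain ⟨i, rfl⟩ := mem_zpowers_iff.1 hx
      rw [← conj_zpow, D.sy]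
      exact zpow_mem (inv_mem (mem_zpowers _)) i
    · obtain ⟨i, hi⟩ := mem_zpowers_iff.1 hx
      have : x = (D.s * D.y * D.s⁻¹) ^ i := by
        rw [conj_zpow, hi]
        simp [inv_self D.hs, ← mul_assoc, mul_self D.hs]
        rw [mul_assoc, mul_self D.hs, mul_one]
      rw [this, D.sy]
      exact zpow_mem (inv_mem (mem_zpowers _)) i
  have hsC : D.s ∉ C := fun e => by
    have e1 : Commute D.s D.y := mem_centralizer_singleton_iff.1 e
    have := D.sy
    rw [e1.eq, mul_inv_cancel_right] at this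
    exact D.y_not_involution this
  have hrel : C.relIndex N = 2 := by
    have h1 := H30.relIndex_centralizer_dvd_card_mulAut (zpowers D.y)
    haveI : IsCyclic (zpowers D.y) := inferInstance
    rw [IsCyclic.card_mulAut, Nat.card_zpowers, D.hy, hcc, show Nat.totient 3 = 2 by decide] at h1
    rcases (Nat.dvd_prime Nat.prime_two).1 h1 with e | e
    · exact absurd (relIndex_eq_one.1 e hsN) hsC
    · exact e
  have hN : Nat.card N = 2 * Nat.card C := by
    rw [← hrel, ← relIndex_bot_left, ← relIndex_bot_left, mul_comm,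
      relIndex_mul_relIndex _ _ _ bot_le hCN]
  have hy0 : zpowers D.y ≠ ⊥ := by
    rw [Ne, zpowers_eq_bot]; exact D.y_ne_one
  have hle := h.card_normalizer_le hy0 (h.ne_top (by rw [Nat.card_zpowers, D.hy]; norm_num))
  have hdN := h.card_dvd N
  obtain ⟨k, hk⟩ := h36
  change Nat.card N ≤ 315 at hle
  rw [hN, hk] at hle hdN ⊢
  have hk' : k ≤ 4 := by omega
  interval_cases k <;> first | omega | (exfalso; norm_num at hdN)

/-- The involutions centralising the core are the three obvious ones. -/
theorem Local.involution_cases (h : Hyp G) {a : G} (ha : orderOf a = 2) (hay : Commute a D.y) :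
    a = D.z ∨ a = D.τ ∨ a = D.z * D.τ := by
  classical
  set N := normalizer (zpowers D.y : Set G)
  let T : Set G := {a | orderOf a = 2 ∧ Commute a D.y}
  have hC : centralizer ({D.z} : Set G) ≤ N := by
    intro c hc
    have hzc : Commute D.z c := (mem_centralizer_singleton_iff.1 hc).symm
    refine Subgroup.mem_normalizer_iff.2 fun x => ⟨fun hx => ?_, fun hx => ?_⟩
    · obtain ⟨i, rfl⟩ := mem_zpowers_iff.1 hx
      rw [← conj_zpow]
      exact zpow_mem (D.core c hzc) i
    · obtain ⟨i, hi⟩ := mem_zpowers_iff.1 hx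
      have : x = (c⁻¹ * D.y * c⁻¹⁻¹) ^ i := by rw [conj_zpow, hi, inv_inv]; group
      rw [this]
      exact zpow_mem (D.core c⁻¹ hzc.inv_right) i
  have hT : T ⊆ Set.range fun n : N => (n : G) * D.z * (n : G)⁻¹ := by
    rintro b ⟨hb, hby⟩
    obtain ⟨g, hg⟩ := isConj_iff.1 (D.conj b hb)
    refine ⟨⟨g, ?_⟩, hg⟩
    have h1 : D.y ∈ zpowers (g * D.y * g⁻¹) :=
      D.three_conj (hg ▸ hby) (by rw [← D.hy, pow_orderOf_eq_one])
    have h2 : zpowers D.y = zpowers (g * D.y * g⁻¹) :=
      zpowers_eq_of_three (by rw [conj_orderOf, D.hy]) h1 D.y_ne_one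
    have h3 : (zpowers D.y).map (MulAut.conj g).toMonoidHom = zpowers (g * D.y * g⁻¹) := by
      rw [MonoidHom.map_zpowers]; rfl
    rw [← h2] at h3
    exact Subgroup.mem_normalizer_iff.2 fun x => ⟨fun hx => by
      rw [← h3]; exact ⟨x, hx, rfl⟩, fun hx => by
      rw [← h3] at hx
      obtain ⟨x', hx', e⟩ := hx
      exact (MulAut.conj g).injective e ▸ hx'⟩
  have hcard : T.ncard ≤ 3 := by
    refine le_trans (Set.ncard_le_ncard hT (Set.finite_range _)) ?_
    let f : N → G := fun n => (n : G) * D.z * (n : G)⁻¹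
    let F : Set.range f → N ⧸ (centralizer ({D.z} : Set G)).subgroupOf N :=
      fun b => QuotientGroup.mk b.2.choose
    have hF : Function.Injective F := by
      intro b b' e
      rw [QuotientGroup.eq, Subgroup.mem_subgroupOf, mem_centralizer_singleton_iff] at e
      apply Subtype.ext
      rw [← b.2.choose_spec, ← b'.2.choose_spec]
      simp only [f]
      set n := (b.2.choose : G)
      set m := (b'.2.choose : G)
      simp only [Subgroup.coe_mul, Subgroup.coe_inv] at e
      calc n * D.z * n⁻¹ = n * (D.z * (n⁻¹ * m)) * m⁻¹ := by group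
        _ = n * (n⁻¹ * m * D.z) * m⁻¹ := by rw [e]
        _ = _ := by group
    refine le_trans (Nat.card_le_card_of_injective F hF) ?_
    have hm := Subgroup.card_mul_index ((centralizer ({D.z} : Set G)).subgroupOf N)
    rw [Nat.card_congr (subgroupOfEquivOfLe hC).toEquiv, D.card, (D.card_normalizer_core h).2] at hm
    show Nat.card (N ⧸ (centralizer ({D.z} : Set G)).subgroupOf N) ≤ 3
    rw [← Subgroup.index_eq_card]
    omega
  have hzT : D.z ∈ T := ⟨D.hz, D.zy⟩
  have hτT : D.τ ∈ T := ⟨D.hτ, D.τy⟩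
  have hzτT : D.z * D.τ ∈ T :=
    ⟨orderOf_mul_two D.hz D.hτ D.zτ D.hτz.symm, D.zy.mul_left D.τy⟩
  by_contra hne
  push Not at hne
  have hne1 : D.z ≠ D.z * D.τ := fun e => by
    have := D.hτ
    rw [left_eq_mul.1 e, orderOf_one] at this
    omega
  have hne2 : D.τ ≠ D.z * D.τ := fun e => by
    have := D.hz
    rw [right_eq_mul.1 e, orderOf_one] at this
    omega
  have h4 : ({a, D.z, D.τ, D.z * D.τ} : Set G).ncard = 4 := by
    rw [Set.ncard_insert_of_notMem (by simp [hne.1, hne.2.1, hne.2.2]),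
      Set.ncard_insert_of_notMem (by simp [D.hτz.symm, hne1]), Set.ncard_pair hne2]
  have h5 : ({a, D.z, D.τ, D.z * D.τ} : Set G).ncard ≤ T.ncard := by
    refine Set.ncard_le_ncard ?_ (Set.toFinite _)
    rintro x (rfl | rfl | rfl | rfl)
    exacts [⟨ha, hay⟩, hzT, hτT, hzτT]
  omega

/-- The product of an element of order three and an involution, both centralising the core. -/
theorem Local.cube (h : Hyp G) {q a : G} (hq : q ^ 3 = 1) (hqy : Commute q D.y)
    (hqn : q ∉ zpowers D.y) (ha : orderOf a = 2) (hay : Commute a D.y) : (q * a) ^ 3 = 1 := by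
  have hmove : ∀ b, orderOf b = 2 → Commute b D.y → q * b * q⁻¹ ≠ b := by
    intro b hb hby e
    obtain ⟨g, hg⟩ := isConj_iff.1 (D.conj b hb)
    have hbq : Commute b q := (mul_inv_eq_iff_eq_mul.1 e).symm
    have h1 := D.three_conj (hg ▸ hbq) hq
    have h2 : D.y ∈ zpowers (g * D.y * g⁻¹) :=
      D.three_conj (hg ▸ hby) (by rw [← D.hy, pow_orderOf_eq_one])
    rw [← zpowers_eq_of_three (by rw [conj_orderOf, D.hy]) h2 D.y_ne_one] at h1
    exact hqn h1
  set a1 := q * a * q⁻¹
  set a2 := q * a1 * q⁻¹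
  have ho1 : orderOf a1 = 2 := by rw [conj_orderOf, ha]
  have ho2 : orderOf a2 = 2 := by rw [conj_orderOf, ho1]
  have hy1 : Commute a1 D.y := (hqy.mul_left hay).mul_left hqy.inv_left
  have hy2 : Commute a2 D.y := (hqy.mul_left hy1).mul_left hqy.inv_left
  have hq3 : q * q * q = 1 := by rw [← hq, pow_succ, pow_two]
  have hback : q * a2 * q⁻¹ = a := by
    show q * (q * (q * a * q⁻¹) * q⁻¹) * q⁻¹ = a
    calc _ = (q * q * q) * a * (q * q * q)⁻¹ := by group
      _ = a := by rw [hq3]; group
  have n1 : a1 ≠ a := hmove a ha hay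
  have n2 : a2 ≠ a1 := hmove a1 ho1 hy1
  have n3 : a2 ≠ a := fun e => by rw [e] at hback; exact n1 hback
  have hprod : (q * a) ^ 3 = a1 * a2 * a := by
    show _ = q * a * q⁻¹ * (q * (q * a * q⁻¹) * q⁻¹) * a
    calc (q * a) ^ 3 = q * a * q * a * q * a := by rw [pow_succ, pow_two]; group
      _ = q * a * q⁻¹ * (q * q * a * q⁻¹ * q⁻¹) * (q * q * q) * a := by group
      _ = q * a * q⁻¹ * (q * q * a * q⁻¹ * q⁻¹) * a := by rw [hq3, mul_one]
      _ = _ := by group
  have hcz : D.z * D.τ = D.τ * D.z := D.zτ.eq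
  have hzz := mul_self D.hz
  have hττ := mul_self D.hτ
  have r1 : ∀ x : G, D.τ * (D.z * x) = D.z * (D.τ * x) := fun x => by
    rw [← mul_assoc, ← hcz, mul_assoc]
  have r2 : ∀ x : G, D.z * (D.z * x) = x := fun x => by rw [← mul_assoc, hzz, one_mul]
  have r3 : ∀ x : G, D.τ * (D.τ * x) = x := fun x => by rw [← mul_assoc, hττ, one_mul]
  rw [hprod]
  rcases D.involution_cases h ha hay with e | e | e <;>
    rcases D.involution_cases h ho1 hy1 with e1 | e1 | e1 <;>
    rcases D.involution_cases h ho2 hy2 with e2 | e2 | e2 <;>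
    first
      | exact absurd (e1.trans e.symm) n1
      | exact absurd (e2.trans e1.symm) n2
      | exact absurd (e2.trans e.symm) n3
      | (rw [e1, e2, e]; simp only [mul_assoc, r1, r2, r3, hzz, hττ, ← hcz, mul_one])

/-- Subgroups of order nine centralising the core are moved by its involutions. -/
theorem Local.not_normalize (h : Hyp G) {P : Subgroup G} (hP : Nat.card P = 9)
    (hPC : P ≤ centralizer ({D.y} : Set G)) {a : G} (ha : orderOf a = 2) (hay : Commute a D.y) :
    ∃ q ∈ P, a * q * a⁻¹ ∉ P := by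
  by_contra hall
  push Not at hall
  obtain ⟨q, hqP, hqn⟩ : ∃ q ∈ P, q ∉ zpowers D.y := by
    by_contra hc
    push Not at hc
    have := Subgroup.card_dvd_of_le (show P ≤ zpowers D.y from hc)
    rw [hP, Nat.card_zpowers, D.hy] at this
    omega
  have hqy : Commute q D.y := mem_centralizer_singleton_iff.1 (hPC hqP)
  have hd : orderOf q ∣ 9 := hP ▸ Subgroup.orderOf_dvd_natCard P hqP
  have hb2 : orderOf (q * a * q⁻¹) = 2 := by rw [conj_orderOf, ha]
  have hby : Commute (q * a * q⁻¹) D.y := (hqy.mul_left hay).mul_left hqy.inv_left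
  set b := q * a * q⁻¹ with hb
  have habP : a * b ∈ P := by
    have : a * b = a * q * a⁻¹ * q⁻¹ := by rw [hb, inv_self ha]; group
    rw [this]
    exact mul_mem (hall q hqP) (inv_mem hqP)
  have hne : b ≠ a := fun e => by
    have haq : Commute a q := by
      rw [hb, mul_inv_eq_iff_eq_mul] at e
      exact e.symm
    obtain ⟨g, hg⟩ := isConj_iff.1 (D.conj a ha)
    have hq3 : q ^ 3 ∈ P := pow_mem hqP 3
    have h3 : (q ^ 3) ^ 3 = 1 := by
      rw [← pow_mul]; exact orderOf_dvd_iff_pow_eq_one.1 hd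
    have hy' : D.y ∈ zpowers (g * D.y * g⁻¹) :=
      D.three_conj (hg ▸ hay) (by rw [← D.hy, pow_orderOf_eq_one])
    have hZ := zpowers_eq_of_three (by rw [conj_orderOf, D.hy]) hy' D.y_ne_one
    by_cases h1 : q ^ 3 = 1
    · exact hqn (hZ ▸ D.three_conj (hg ▸ haq) h1)
    · have hc9 : orderOf q = 9 := by
        rcases (Nat.dvd_prime_pow Nat.prime_three (m := 2)).1 (by simpa using hd) with ⟨i, hi, hi'⟩
        interval_cases i
        · have e1 : q = 1 := orderOf_eq_one_iff.1 (by simpa using hi')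
          exact absurd (by rw [e1, one_pow]) h1
        · exact absurd (by rw [← pow_orderOf_eq_one q, hi']; norm_num) h1
        · simpa using hi'
      have hcy : Commute (g * D.z * g⁻¹) q := hg ▸ haq
      have hd24 : 9 ∣ Nat.card (centralizer ({g * D.z * g⁻¹} : Set G)) := by
        rw [← hc9]
        exact Subgroup.orderOf_dvd_natCard _ (mem_centralizer_singleton_iff.2 hcy.eq.symm)
      have he : Nat.card (centralizer ({g * D.z * g⁻¹} : Set G)) = 24 := by
        rw [← D.card]
        refine (Nat.card_congr (Equiv.ofBijective (fun c : centralizer ({D.z} : Set G) =>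
          (⟨g * c * g⁻¹, mem_centralizer_singleton_iff.2
            (conj_commute g (mem_centralizer_singleton_iff.1 c.2)).eq⟩ :
            centralizer ({g * D.z * g⁻¹} : Set G))) ⟨fun c c' e => ?_, fun c => ?_⟩)).symm
        · exact Subtype.ext ((MulAut.conj g).injective (congrArg Subtype.val e))
        · have hc' := conj_commute g⁻¹ (mem_centralizer_singleton_iff.1 c.2 : Commute _ _)
          refine ⟨⟨g⁻¹ * c * g, mem_centralizer_singleton_iff.2 ?_⟩, Subtype.ext (by simp [mul_assoc])⟩
          simpa [mul_assoc] using hc'.eq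
      rw [he] at hd24
      omega
  have h2 : orderOf (a * b) = 2 := by
    have hcomm : Commute a b := by
      rcases D.involution_cases h ha hay with e | e | e <;>
        rcases D.involution_cases h hb2 hby with e' | e' | e' <;> rw [e, e']
      all_goals first
        | exact Commute.refl _
        | exact D.zτ
        | exact D.zτ.symm
        | exact (Commute.refl D.z).mul_right D.zτ
        | exact D.zτ.symm.mul_right (Commute.refl D.τ)
        | exact ((Commute.refl D.z).mul_right D.zτ).symm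
        | exact (D.zτ.symm.mul_right (Commute.refl D.τ)).symm
    exact orderOf_mul_two ha hb2 hcomm hne.symm
  have := Subgroup.orderOf_dvd_natCard P habP
  rw [hP, h2] at this
  omega

/-- A Sylow three-subgroup of the core's centraliser invariant under `s`. -/
theorem Local.exists_invariant (h : Hyp G) :
    ∃ P : Subgroup G, Nat.card P = 9 ∧ P ≤ centralizer ({D.y} : Set G) ∧ D.y ∈ P ∧
      ∀ x ∈ P, D.s * x * D.s⁻¹ ∈ P := by
  classical
  haveI : Fact (Nat.Prime 3) := ⟨Nat.prime_three⟩
  set C := centralizer ({D.y} : Set G)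
  have hY : IsPGroup 3 (zpowers D.y) :=
    IsPGroup.of_card (n := 1) (by rw [Nat.card_zpowers, D.hy, pow_one])
  obtain ⟨P₀, hP₀⟩ := hY.exists_le_sylow
  have hP9 : Nat.card (P₀ : Subgroup G) = 3 ^ 2 :=
    H30.card_sylow_subgroup P₀ (m := 280) (by rw [h.card]; norm_num) (by norm_num)
  have hPC : (P₀ : Subgroup G) ≤ C := fun x hx => mem_centralizer_singleton_iff.2
    (congrArg Subtype.val (IsPGroup.commutative_of_card_eq_prime_sq hP9
      (⟨x, hx⟩ : (P₀ : Subgroup G)) ⟨D.y, hP₀ (mem_zpowers _)⟩))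
  set P := (P₀ : Subgroup G)
  have hP : Nat.card P = 9 := by rw [hP9]; norm_num
  let v : Fin 4 → G := ![1, D.z, D.τ, D.z * D.τ]
  have hvC : ∀ i, Commute (v i) D.y := by
    intro i; fin_cases i
    exacts [Commute.one_left _, D.zy, D.τy, D.zy.mul_left D.τy]
  have hzne : D.z ≠ 1 := fun e => by have := D.hz; rw [e, orderOf_one] at this; omega
  have hτne : D.τ ≠ 1 := fun e => by have := D.hτ; rw [e, orderOf_one] at this; omega
  have hzτ2 := orderOf_mul_two D.hz D.hτ D.zτ D.hτz.symm
  have hv2 : ∀ i, v i = 1 ∨ orderOf (v i) = 2 := by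
    intro i; fin_cases i
    exacts [Or.inl rfl, Or.inr D.hz, Or.inr D.hτ, Or.inr hzτ2]
  have hvv : ∀ i, v i * v i = 1 := fun i => by
    rcases hv2 i with e | e
    · rw [e, one_mul]
    · exact mul_self e
  have hfix : ∀ a, Commute a D.y → a * a = 1 → (∀ x ∈ P, a * x * a⁻¹ ∈ P) → a = 1 := by
    intro a hay haa hn
    by_contra h1
    obtain ⟨q, hq, hq'⟩ := D.not_normalize h hP hPC
      (orderOf_eq_prime (by rw [sq, haa]) h1) hay
    exact hq' (hn q hq)
  have hcommv : ∀ i j, Commute (v i) (v j) := by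
    intro i j
    fin_cases i <;> fin_cases j
    all_goals first
      | exact Commute.one_left _
      | exact Commute.one_right _
      | exact Commute.refl _
      | exact D.zτ
      | exact D.zτ.symm
      | exact (Commute.refl D.z).mul_right D.zτ
      | exact D.zτ.symm.mul_right (Commute.refl D.τ)
      | exact ((Commute.refl D.z).mul_right D.zτ).symm
      | exact (D.zτ.symm.mul_right (Commute.refl D.τ)).symm
  -- the four cosets of `P` in `C`
  have hcos : ∀ c ∈ C, ∃ i, (v i)⁻¹ * c ∈ P := by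
    let F : Fin 4 → C ⧸ P.subgroupOf C := fun i =>
      QuotientGroup.mk ⟨v i, mem_centralizer_singleton_iff.2 (hvC i).eq⟩
    have hF : Function.Injective F := by
      intro i j e
      rw [QuotientGroup.eq, Subgroup.mem_subgroupOf] at e
      have e' : (v i)⁻¹ * v j ∈ P := e
      rw [inv_eq_of_mul_eq_one_right (hvv i)] at e'
      have h2 : (v i * v j) * (v i * v j) = 1 := by
        rw [sq_mul_of_commute (hcommv i j), hvv, hvv, one_mul]
      have h1 : v i * v j = 1 := by
        by_contra h1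
        have := Subgroup.orderOf_dvd_natCard P e'
        rw [hP, orderOf_eq_prime (by rw [sq, h2]) h1] at this
        omega
      have hij : v i = v j := by
        rw [mul_eq_one_iff_eq_inv.1 h1, inv_eq_of_mul_eq_one_right (hvv j)]
      revert hij
      fin_cases i <;> fin_cases j <;> intro hij <;> first
        | rfl
        | exact absurd hij hzne | exact absurd hij.symm hzne
        | exact absurd hij hτne | exact absurd hij.symm hτne
        | exact absurd hij D.hτz | exact absurd hij.symm D.hτz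
        | exact absurd (left_eq_mul.1 hij) hτne | exact absurd (left_eq_mul.1 hij.symm) hτne
        | exact absurd (right_eq_mul.1 hij) hzne | exact absurd (right_eq_mul.1 hij.symm) hzne
        | exact absurd (mul_eq_one_iff_eq_inv.1 hij) (by rw [inv_self D.hτ]; exact D.hτz.symm)
        | exact absurd (mul_eq_one_iff_eq_inv.1 hij.symm) (by rw [inv_self D.hτ]; exact D.hτz.symm)
    have hm := Subgroup.card_mul_index (P.subgroupOf C)
    rw [Nat.card_congr (subgroupOfEquivOfLe hPC).toEquiv, hP, (D.card_normalizer_core h).1] at hm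
    have hb : Function.Bijective F := hF.bijective_of_nat_card_le (by
      rw [← Subgroup.index_eq_card, Nat.card_fin]; omega)
    intro c hc
    obtain ⟨i, hi⟩ := hb.2 (QuotientGroup.mk ⟨c, hc⟩)
    rw [QuotientGroup.eq, Subgroup.mem_subgroupOf] at hi
    exact ⟨i, hi⟩
  -- the twist by `s`
  have hsy : ∀ c ∈ C, D.s * c * D.s⁻¹ ∈ C := by
    intro c hc
    have h1 := conj_commute D.s (mem_centralizer_singleton_iff.1 hc : Commute c D.y)
    rw [D.sy] at h1
    exact mem_centralizer_singleton_iff.2 (by simpa using h1.inv_right.eq)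
  obtain ⟨i, hi⟩ : ∃ i, ∀ x ∈ P, (v i)⁻¹ * (D.s * x * D.s⁻¹) * v i ∈ P := by
    haveI : Fact (Nat.Prime 3) := ⟨Nat.prime_three⟩
    set Q := P.map (MulAut.conj D.s).toMonoidHom
    have hQC : Q ≤ C := by rintro _ ⟨x, hx, rfl⟩; exact hsy x (hPC hx)
    have hQ : Nat.card Q = 9 := by
      rw [Subgroup.card_map_of_injective (MulAut.conj D.s).injective, hP]
    have hidx : ¬ 3 ∣ (P.subgroupOf C).index := by
      have hm := Subgroup.card_mul_index (P.subgroupOf C)
      rw [Nat.card_congr (subgroupOfEquivOfLe hPC).toEquiv, hP, (D.card_normalizer_core h).1] at hm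
      omega
    have hidx' : ¬ 3 ∣ (Q.subgroupOf C).index := by
      have hm := Subgroup.card_mul_index (Q.subgroupOf C)
      rw [Nat.card_congr (subgroupOfEquivOfLe hQC).toEquiv, hQ, (D.card_normalizer_core h).1] at hm
      omega
    have h9 : ∀ R : Subgroup G, R ≤ C → Nat.card R = 9 → IsPGroup 3 (R.subgroupOf C) := fun R hR hc =>
      IsPGroup.of_card (n := 2) (by rw [Nat.card_congr (subgroupOfEquivOfLe hR).toEquiv, hc]; norm_num)
    let SP := (h9 P hPC hP).toSylow hidx
    let SQ := (h9 Q hQC hQ).toSylow hidx'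
    obtain ⟨c, hc⟩ := MulAction.exists_smul_eq C SP SQ
    obtain ⟨i, hi⟩ := hcos c c.2
    refine ⟨i, fun x hx => ?_⟩
    have hmem : (⟨D.s * x * D.s⁻¹, hsy x (hPC hx)⟩ : C) ∈ (SQ : Subgroup C) := by
      show _ ∈ Q.subgroupOf C
      exact ⟨x, hx, rfl⟩
    rw [← hc, Sylow.coe_subgroup_smul, Subgroup.mem_pointwise_smul_iff_inv_smul_mem] at hmem
    have h1 : (c : G)⁻¹ * (D.s * x * D.s⁻¹) * c ∈ P := by
      simpa [SP, MulAut.conj_apply, Subgroup.mem_subgroupOf, mul_assoc] using hmem
    have h2 := mul_mem (mul_mem hi h1) (inv_mem hi)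
    convert h2 using 1
    group
  -- the coset of the twist is fixed by `s`
  have hz1 : ∀ w : G, Commute w D.y → w * w = 1 → (∀ x ∈ P, w * (D.s * x * D.s⁻¹) * w⁻¹ ∈ P) →
      D.s * w * D.s⁻¹ * w = 1 := by
    intro w hwy hww hw
    set w' := D.s * w * D.s⁻¹
    have hw'y : Commute w' D.y := mem_centralizer_singleton_iff.1
      (hsy w (mem_centralizer_singleton_iff.2 hwy.eq))
    have hw'2 : w' * w' = 1 := by
      show D.s * w * D.s⁻¹ * (D.s * w * D.s⁻¹) = 1
      calc _ = D.s * (w * w) * D.s⁻¹ := by group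
        _ = 1 := by rw [hww]; group
    have hss : D.s⁻¹ = D.s := inv_self D.hs
    have hboth : ∀ x ∈ P, (w * w') * x * (w * w')⁻¹ ∈ P := by
      intro x hx
      have h1 := hw (w * (D.s * x * D.s⁻¹) * w⁻¹) (hw x hx)
      convert h1 using 1
      show w * (D.s * w * D.s⁻¹) * x * (w * (D.s * w * D.s⁻¹))⁻¹ = _
      rw [hss]
      simp only [mul_inv_rev, hss, mul_assoc]
    have hcomm : Commute w w' := by
      rcases eq_or_ne w 1 with rfl | h1
      · exact Commute.one_left _
      rcases eq_or_ne w' 1 with e | h1'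
      · rw [e]; exact Commute.one_right _
      have o : orderOf w = 2 := orderOf_eq_prime (by rw [sq, hww]) h1
      have o' : orderOf w' = 2 := orderOf_eq_prime (by rw [sq, hw'2]) h1'
      rcases D.involution_cases h o hwy with e | e | e <;>
        rcases D.involution_cases h o' hw'y with e' | e' | e' <;> rw [e, e']
      all_goals first
        | exact hcommv 1 1 | exact hcommv 1 2 | exact hcommv 1 3
        | exact hcommv 2 1 | exact hcommv 2 2 | exact hcommv 2 3
        | exact hcommv 3 1 | exact hcommv 3 2 | exact hcommv 3 3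
    rw [← hcomm.eq]
    exact hfix _ (hwy.mul_left hw'y) (by rw [sq_mul_of_commute hcomm, hww, hw'2, one_mul]) hboth
  have hw := hz1 (v i) (hvC i) (hvv i) (fun x hx => by
    have := hi x hx
    rwa [inv_eq_of_mul_eq_one_right (hvv i)] at this ⊢)
  have hss : D.s⁻¹ = D.s := inv_self D.hs
  have hsz : D.s * D.z = D.z * D.s := D.zs.eq.symm
  have hsτ : D.s * D.τ * D.s⁻¹ = D.z * D.τ := by
    rcases D.involution_cases h (a := D.s * D.τ * D.s⁻¹) (by rw [conj_orderOf, D.hτ])
      (mem_centralizer_singleton_iff.1 (hsy _ (mem_centralizer_singleton_iff.2 D.τy.eq))) with e | e | e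
    · exfalso
      refine D.hτz ?_
      calc D.τ = D.s⁻¹ * (D.s * D.τ * D.s⁻¹) * D.s := by group
        _ = D.z := by rw [e, mul_assoc, ← hsz, ← mul_assoc, inv_mul_cancel, one_mul]
    · exact absurd (mul_inv_eq_iff_eq_mul.1 e) D.sτ
    · exact e
  fin_cases i
  · exact ⟨P, hP, hPC, hP₀ (mem_zpowers _), fun x hx => by simpa [v] using hi x hx⟩
  · refine ⟨P.map (MulAut.conj D.τ).toMonoidHom, ?_, ?_, ?_, ?_⟩
    · rw [Subgroup.card_map_of_injective (MulAut.conj D.τ).injective, hP]
    · rintro _ ⟨x, hx, rfl⟩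
      exact mul_mem (mul_mem (mem_centralizer_singleton_iff.2 D.τy.eq) (hPC hx))
        (inv_mem (mem_centralizer_singleton_iff.2 D.τy.eq))
    · refine ⟨D.y, hP₀ (mem_zpowers _), ?_⟩
      show D.τ * D.y * D.τ⁻¹ = D.y
      rw [D.τy.eq, mul_inv_cancel_right]
    · rintro _ ⟨x, hx, rfl⟩
      have h0 : D.z⁻¹ * (D.s * x * D.s⁻¹) * D.z ∈ P := by simpa [v] using hi x hx
      refine ⟨_, h0, ?_⟩
      show D.τ * (D.z⁻¹ * (D.s * x * D.s⁻¹) * D.z) * D.τ⁻¹ = D.s * (D.τ * x * D.τ⁻¹) * D.s⁻¹
      calc D.τ * (D.z⁻¹ * (D.s * x * D.s⁻¹) * D.z) * D.τ⁻¹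
          = (D.z * D.τ) * (D.s * x * D.s⁻¹) * (D.z * D.τ)⁻¹ := by
            rw [inv_self D.hz, D.zτ.eq, mul_inv_rev, inv_self D.hz]; group
        _ = (D.s * D.τ * D.s⁻¹) * (D.s * x * D.s⁻¹) * (D.s * D.τ * D.s⁻¹)⁻¹ := by rw [hsτ]
        _ = _ := by group
  · exfalso
    change D.s * D.τ * D.s⁻¹ * D.τ = 1 at hw
    rw [hsτ, mul_assoc, mul_self D.hτ, mul_one] at hw
    exact hzne hw
  · exfalso
    change D.s * (D.z * D.τ) * D.s⁻¹ * (D.z * D.τ) = 1 at hw
    rw [show D.s * (D.z * D.τ) * D.s⁻¹ = (D.s * D.z * D.s⁻¹) * (D.s * D.τ * D.s⁻¹) by group, hsτ,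
      hsz, mul_inv_cancel_right, ← mul_assoc D.z D.z, mul_self D.hz, one_mul, ← mul_assoc,
      ← D.zτ.eq, mul_assoc, mul_self D.hτ, mul_one] at hw
    exact hzne hw

/-- The local data force the alternating group of degree seven. -/
theorem Local.false (h : Hyp G) (D : Local G) : False := by
  haveI := h.simple
  haveI : Fact (Nat.Prime 3) := ⟨Nat.prime_three⟩
  obtain ⟨P, hP, hPC, hyP, hsP⟩ := D.exists_invariant h
  set C := centralizer ({D.y} : Set G)
  set N := normalizer (zpowers D.y : Set G)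
  have hP9 : Nat.card P = 3 ^ 2 := by rw [hP]; norm_num
  have hab : ∀ a ∈ P, ∀ b ∈ P, Commute a b := fun a ha b hb =>
    congrArg Subtype.val (IsPGroup.commutative_of_card_eq_prime_sq hP9 (⟨a, ha⟩ : P) ⟨b, hb⟩)
  have hidxP : P.index = 280 := by
    have := P.card_mul_index; rw [hP, h.card] at this; omega
  let SP : Sylow 3 G := (IsPGroup.of_card hP9).toSylow (by rw [hidxP]; norm_num)
  have hSP : (SP : Subgroup G) = P := IsPGroup.toSylow_coe _ _
  -- the normaliser of `P` meets the centraliser of the core in `P`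
  have hinC : ∀ c ∈ C, c ∈ normalizer (P : Set G) → c ∈ P := by
    intro c hc hcN
    set J := C ⊓ normalizer (P : Set G)
    have hPJ : P ≤ J := le_inf hPC le_normalizer
    have hodd : ¬ 2 ∣ Nat.card J := by
      intro h2
      haveI : Fact (Nat.Prime 2) := ⟨Nat.prime_two⟩
      obtain ⟨⟨a, haC, haN⟩, ha⟩ := exists_prime_orderOf_dvd_card' 2 h2
      rw [← Subgroup.orderOf_coe] at ha
      obtain ⟨q, hq, hq'⟩ := D.not_normalize h hP hPC ha (mem_centralizer_singleton_iff.1 haC)
      exact hq' ((Subgroup.mem_normalizer_iff.1 haN q).1 hq)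
    have hd : Nat.card J ∣ 36 := (D.card_normalizer_core h).1 ▸ Subgroup.card_dvd_of_le inf_le_left
    have h9 : 9 ∣ Nat.card J := hP ▸ Subgroup.card_dvd_of_le hPJ
    have hJ : Nat.card J ≤ Nat.card P := by
      rw [hP]
      obtain ⟨k, hk⟩ := h9
      have hk4 : k ∣ 4 := Nat.dvd_of_mul_dvd_mul_left (by norm_num : 0 < 9) (by rwa [← hk])
      rcases (Nat.dvd_prime_pow Nat.prime_two (m := 2)).1 (by simpa using hk4) with ⟨i, hi, rfl⟩
      interval_cases i <;> omega
    exact (Subgroup.eq_of_le_of_card_ge hPJ hJ) ▸ (⟨hc, hcN⟩ : c ∈ J)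
  have hsN : D.s ∈ normalizer (P : Set G) := by
    refine Subgroup.mem_normalizer_iff.2 fun x => ⟨hsP x, fun hx => ?_⟩
    have e : x = D.s * (D.s * x * D.s⁻¹) * D.s⁻¹ := by
      calc x = (D.s * D.s) * x * (D.s * D.s)⁻¹ := by rw [mul_self D.hs]; group
        _ = _ := by group
    rw [e]
    exact hsP _ hx
  -- a second conjugate of the core inside `P`
  obtain ⟨g, hgN, hg⟩ : ∃ g ∈ normalizer (P : Set G), g * D.y * g⁻¹ ∉ zpowers D.y := by
    by_contra hcon
    push Not at hcon
    have hNN : normalizer (P : Set G) ≤ N := by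
      intro g hg
      have e := zpowers_eq_of_three D.hy (hcon g hg) (by
        rw [Ne, ← orderOf_eq_one_iff, conj_orderOf, D.hy]; norm_num)
      have h3 : (zpowers D.y).map (MulAut.conj g).toMonoidHom = zpowers D.y := by
        rw [MonoidHom.map_zpowers]; exact e
      exact Subgroup.mem_normalizer_iff.2 fun x => ⟨fun hx => by
        rw [← h3]; exact ⟨x, hx, rfl⟩, fun hx => by
        rw [← h3] at hx
        obtain ⟨x', hx', e⟩ := hx
        exact (MulAut.conj g).injective e ▸ hx'⟩
    have h36 := D.card_normalizer_core h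
    have hCN : C ≤ N := by
      intro c hc
      have hc' : centralizer ({D.y} : Set G) = centralizer (zpowers D.y : Set G) := by
        rw [zpowers_eq_closure, centralizer_closure]
      exact Subgroup.centralizer_le_normalizer _ (hc' ▸ hc)
    have hrelN : C.relIndex N = 2 := by
      have hm := relIndex_mul_relIndex ⊥ C N bot_le hCN
      rw [relIndex_bot_left, relIndex_bot_left, h36.1, h36.2] at hm
      omega
    have hPeq : C ⊓ normalizer (P : Set G) = P :=
      le_antisymm (fun c hc => hinC c hc.1 hc.2) (le_inf hPC le_normalizer)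
    have hr : P.relIndex (normalizer (P : Set G)) = 2 := by
      rw [(congrArg (fun X : Subgroup G => X.relIndex (normalizer (P : Set G))) hPeq).symm.trans
        (Subgroup.inf_relIndex_right C (normalizer (P : Set G)))]
      have h1 := Subgroup.relIndex_le_of_le_right hNN (show C.relIndex N ≠ 0 by omega)
      have h2 : C.relIndex (normalizer (P : Set G)) ≠ 1 := fun e => by
        have e1 : Commute D.s D.y := mem_centralizer_singleton_iff.1 (relIndex_eq_one.1 e hsN)
        have := D.sy
        rw [e1.eq, mul_inv_cancel_right] at this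
        exact D.y_not_involution this
      have h3 : C.relIndex (normalizer (P : Set G)) ≠ 0 := index_ne_zero_of_finite
      omega
    have hcN : Nat.card (normalizer (P : Set G)) = 18 := by
      have hm := relIndex_mul_relIndex ⊥ P (normalizer (P : Set G)) bot_le le_normalizer
      rw [relIndex_bot_left, relIndex_bot_left, hP, hr] at hm
      omega
    have h1 := SP.card_eq_index_normalizer
    change _ = (normalizer ((SP : Subgroup G) : Set G)).index at h1
    rw [hSP] at h1
    have h2 := card_sylow_modEq_one 3 G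
    rw [h1] at h2
    have h3 := (normalizer (P : Set G)).card_mul_index
    rw [hcN, h.card] at h3
    unfold Nat.ModEq at h2
    omega
  set q := g * D.y * g⁻¹ with hqdef
  have hqP : q ∈ P := (Subgroup.mem_normalizer_iff.1 hgN _).1 hyP
  have hq3 : q ^ 3 = 1 := by rw [← D.hy, ← conj_orderOf g D.y, pow_orderOf_eq_one]
  have hq1 : q ≠ 1 := fun e => hg (e ▸ one_mem _)
  have hqy : Commute q D.y := hab q hqP D.y hyP
  -- conjugate data at `s`
  obtain ⟨k, hk⟩ := isConj_iff.1 (D.conj D.s D.hs)
  set y5 := k * D.y * k⁻¹ with hy5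
  set τ5 := k * D.τ * k⁻¹ with hτ5
  have h5 : ∀ c, Commute D.s c → c ^ 3 = 1 → c ∈ zpowers y5 := fun c hc h3 =>
    D.three_conj (hk ▸ hc) h3
  have hsy5 : Commute D.s y5 := by
    have h0 := conj_commute k D.zy
    rw [hk] at h0
    exact h0
  have hy53 : orderOf y5 = 3 := by rw [hy5, conj_orderOf, D.hy]
  have hcore5 : ∀ c, Commute D.s c → c * y5 * c⁻¹ = y5 ∨ c * y5 * c⁻¹ = y5⁻¹ := by
    intro c hc
    have h1 : c * y5 * c⁻¹ ∈ zpowers y5 := by
      refine h5 _ ((hc.mul_right hsy5).mul_right hc.inv_right) ?_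
      rw [← hy53, ← conj_orderOf c y5, pow_orderOf_eq_one]
    rcases mem_cyclic_three hy53 h1 with e | e | e
    · exfalso
      have := conj_orderOf c y5
      rw [e, orderOf_one, hy53] at this
      omega
    · exact Or.inl e
    · exact Or.inr e
  have hzy5' : ¬ Commute D.z y5 := by
    intro e
    have h1 := D.three e (by rw [← hy53, pow_orderOf_eq_one])
    have h2 : D.y ∈ zpowers y5 := by
      rw [zpowers_eq_of_three D.hy h1 (by rw [Ne, ← orderOf_eq_one_iff, hy53]; norm_num)]
      exact mem_zpowers _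
    obtain ⟨i, hi⟩ := mem_zpowers_iff.1 h2
    have e1 : Commute D.s D.y := hi ▸ hsy5.zpow_right i
    have := D.sy
    rw [e1.eq, mul_inv_cancel_right] at this
    exact D.y_not_involution this
  have hzy5 : D.z * y5 * D.z⁻¹ = y5⁻¹ := (hcore5 D.z D.zs.symm).resolve_left fun e =>
    hzy5' (mul_inv_eq_iff_eq_mul.1 e)
  -- `s` inverts `P`
  have hsq : D.s * q * D.s⁻¹ = q⁻¹ := by
    set c := q * (D.s * q * D.s⁻¹) with hc
    have hcP : c ∈ P := mul_mem hqP (hsP q hqP)
    have hcs : Commute D.s c := by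
      show D.s * c = c * D.s
      rw [hc]
      calc D.s * (q * (D.s * q * D.s⁻¹)) = (D.s * q * D.s⁻¹) * (D.s * D.s) * q * D.s⁻¹ := by group
        _ = (D.s * q * D.s⁻¹) * q * D.s := by rw [mul_self D.hs, mul_one, inv_self D.hs]
        _ = q * (D.s * q * D.s⁻¹) * D.s := by rw [(hab _ (hsP q hqP) _ hqP).eq]
    have hc3 : c ^ 3 = 1 := by
      rw [hc, (hab _ hqP _ (hsP q hqP)).mul_pow, hq3, conj_pow, hq3]; group
    by_cases hc1 : c = 1
    · exact (mul_eq_one_iff_inv_eq.1 hc1).symm
    exfalso
    have h1 := h5 c hcs hc3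
    have hy5P : y5 ∈ P := by
      have e := zpowers_eq_of_three hy53 h1 hc1
      exact (zpowers_le.2 hcP) (e ▸ mem_zpowers y5)
    have hyn : y5 ∉ zpowers D.y := fun e => by
      obtain ⟨i, hi⟩ := mem_zpowers_iff.1 e
      exact hzy5' (hi ▸ D.zy.zpow_right i)
    have hgen : zpowers D.y ⊔ zpowers y5 = P := by
      refine Subgroup.eq_of_le_of_card_ge (sup_le (zpowers_le.2 hyP) (zpowers_le.2 hy5P)) ?_
      obtain ⟨i, -, hi⟩ := (Nat.dvd_prime_pow Nat.prime_three).1
        (hP9 ▸ Subgroup.card_dvd_of_le (sup_le (zpowers_le.2 hyP) (zpowers_le.2 hy5P)))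
      rcases Nat.lt_or_ge i 2 with hi2 | hi2
      · exfalso
        have hle : zpowers D.y = zpowers D.y ⊔ zpowers y5 := by
          refine Subgroup.eq_of_le_of_card_ge le_sup_left ?_
          rw [hi, Nat.card_zpowers, D.hy]
          exact le_trans (Nat.pow_le_pow_right (by norm_num) (by omega : i ≤ 1)) (by norm_num)
        exact hyn (hle ▸ mem_sup_right (mem_zpowers y5))
      · rw [hi, hP9]; exact Nat.pow_le_pow_right (by norm_num) hi2
    obtain ⟨x, hx, hx'⟩ := D.not_normalize h hP hPC D.hz D.zy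
    refine hx' ?_
    have hle : P ≤ P.comap (MulAut.conj D.z).toMonoidHom := by
      conv_lhs => rw [← hgen]
      refine sup_le (zpowers_le.2 ?_) (zpowers_le.2 ?_)
      · show D.z * D.y * D.z⁻¹ ∈ P
        rw [D.zy.eq, mul_inv_cancel_right]; exact hyP
      · show D.z * y5 * D.z⁻¹ ∈ P
        rw [hzy5]; exact inv_mem hy5P
    exact hle hx
  -- an involution of the four group of `q` fixed by `s`
  have hinvQ : ∀ a, orderOf a = 2 → Commute a q →
      a = g * D.z * g⁻¹ ∨ a = g * D.τ * g⁻¹ ∨ a = g * (D.z * D.τ) * g⁻¹ := by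
    intro a ha haq
    have h1 := conj_commute g⁻¹ haq
    have h2 := D.involution_cases h (a := g⁻¹ * a * g⁻¹⁻¹) (by rw [conj_orderOf, ha]) (by
      simpa [hqdef, mul_assoc] using h1)
    have key : ∀ w, g⁻¹ * a * g⁻¹⁻¹ = w → a = g * w * g⁻¹ := fun w e => by rw [← e]; group
    exact h2.imp (key _) (Or.imp (key _) (key _))
  obtain ⟨u, hu2, huq, hsu⟩ : ∃ u, orderOf u = 2 ∧ Commute u q ∧ Commute D.s u := by
    by_contra hcon
    push Not at hcon
    set σ := fun a => D.s * a * D.s⁻¹ with hσ
    have hinvol : ∀ a, σ (σ a) = a := fun a => by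
      show D.s * (D.s * a * D.s⁻¹) * D.s⁻¹ = a
      calc _ = (D.s * D.s) * a * (D.s * D.s)⁻¹ := by group
        _ = a := by rw [mul_self D.hs]; group
    set a0 := g * D.z * g⁻¹
    set a1 := g * D.τ * g⁻¹
    set a2 := g * (D.z * D.τ) * g⁻¹
    have ho : ∀ a, a = a0 ∨ a = a1 ∨ a = a2 → orderOf a = 2 ∧ Commute a q := by
      rintro a (rfl | rfl | rfl)
      · exact ⟨by rw [conj_orderOf, D.hz], conj_commute g D.zy⟩
      · exact ⟨by rw [conj_orderOf, D.hτ], conj_commute g D.τy⟩
      · exact ⟨by rw [conj_orderOf, orderOf_mul_two D.hz D.hτ D.zτ D.hτz.symm],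
          conj_commute g (D.zy.mul_left D.τy)⟩
    have hmap : ∀ a, a = a0 ∨ a = a1 ∨ a = a2 → (σ a = a0 ∨ σ a = a1 ∨ σ a = a2) ∧ σ a ≠ a := by
      intro a ha
      obtain ⟨h1, h2⟩ := ho a ha
      refine ⟨hinvQ _ (by rw [hσ]; simp only [conj_orderOf, h1]) ?_, fun e => ?_⟩
      · have h3 := conj_commute D.s h2
        rw [hsq] at h3
        simpa using h3.inv_right
      · exact hcon a h1 h2 (mul_inv_eq_iff_eq_mul.1 e)
    have hinj : Function.Injective σ := fun a b e => by rw [← hinvol a, e, hinvol]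
    obtain ⟨m0, n0⟩ := hmap a0 (Or.inl rfl)
    obtain ⟨m1, n1⟩ := hmap a1 (Or.inr (Or.inl rfl))
    obtain ⟨m2, n2⟩ := hmap a2 (Or.inr (Or.inr rfl))
    have hd : a0 ≠ a1 ∧ a0 ≠ a2 ∧ a1 ≠ a2 := by
      refine ⟨fun e => D.hτz ((MulAut.conj g).injective e).symm, fun e => ?_, fun e => ?_⟩
      · have e' := (MulAut.conj g).injective (show MulAut.conj g D.z = MulAut.conj g (D.z * D.τ) from e)
        have := D.hτ
        rw [left_eq_mul.1 e', orderOf_one] at this
        omega
      · have e' := (MulAut.conj g).injective (show MulAut.conj g D.τ = MulAut.conj g (D.z * D.τ) from e)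
        have := D.hz
        rw [right_eq_mul.1 e', orderOf_one] at this
        omega
    rcases m0 with e | e | e
    · exact n0 e
    · have e' : σ a1 = a0 := by rw [← e, hinvol]
      rcases m2 with f | f | f
      · exact hd.2.2 (hinj (e'.trans f.symm))
      · exact hd.2.1 (hinj (e.trans f.symm))
      · exact n2 f
    · have e' : σ a2 = a0 := by rw [← e, hinvol]
      rcases m1 with f | f | f
      · exact hd.2.2 (hinj (f.trans e'.symm))
      · exact n1 f
      · exact hd.1 (hinj (e.trans f.symm))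
  -- the element `u` inverts the core of `s`
  have huQ : ∀ c, Commute u c → c ^ 3 = 1 → c ∈ zpowers q := by
    intro c hc hc3
    obtain ⟨l, hl⟩ := isConj_iff.1 (D.conj u hu2)
    have h1 := D.three_conj (hl ▸ huq) hq3
    have h2 := D.three_conj (hl ▸ hc) hc3
    rw [zpowers_eq_of_three (by rw [conj_orderOf, D.hy]) h1 hq1]
    exact h2
  have hsq' : ¬ Commute D.s q := fun e => by
    rw [e.eq, mul_inv_cancel_right] at hsq
    have h2 : q ^ 2 = 1 := by rw [sq]; nth_rewrite 2 [hsq]; rw [mul_inv_cancel]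
    exact hq1 (by rw [← hq3, pow_succ, h2, one_mul])
  have huy5 : u * y5 * u⁻¹ = y5⁻¹ := (hcore5 u hsu).resolve_left fun e => by
    have h1 := huQ y5 (mul_inv_eq_iff_eq_mul.1 e) (by rw [← hy53, pow_orderOf_eq_one])
    have hy51 : y5 ≠ 1 := by rw [Ne, ← orderOf_eq_one_iff, hy53]; norm_num
    have h2 : q ∈ zpowers y5 := by
      have := zpowers_eq_of_three (show orderOf q = 3 by rw [hqdef, conj_orderOf, D.hy]) h1 hy51
      rw [this]; exact mem_zpowers q
    obtain ⟨i, hi⟩ := mem_zpowers_iff.1 h2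
    exact hsq' (hi ▸ hsy5.zpow_right i)
  -- split `u * z` in the centraliser of `s` and `y5`
  set c := u * D.z with hc
  have hsc : Commute D.s c := hsu.mul_right D.zs.symm
  have hcy5 : Commute c y5 := by
    show u * D.z * y5 = y5 * (u * D.z)
    have e1 : D.z * y5 = y5⁻¹ * D.z := mul_inv_eq_iff_eq_mul.1 hzy5
    have e2 : u * y5⁻¹ = y5 * u := by
      have := congrArg (·⁻¹) huy5
      simp only [mul_inv_rev, inv_inv] at this
      rw [← mul_assoc] at this
      exact mul_inv_eq_iff_eq_mul.1 this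
    rw [mul_assoc, e1, ← mul_assoc, e2, mul_assoc]
  obtain ⟨v, e, hv, he, hve⟩ : ∃ v e : G, (v = 1 ∨ v = D.z ∨ v = D.τ ∨ v = D.z * D.τ) ∧
      e ∈ zpowers D.y ∧ c = k * (v * e) * k⁻¹ := by
    have hc' : Commute (k⁻¹ * c * k⁻¹⁻¹) D.y := by
      have := conj_commute k⁻¹ hcy5
      simpa [hy5, mul_assoc] using this
    have hcz : Commute D.z (k⁻¹ * c * k⁻¹⁻¹) := by
      have := conj_commute k⁻¹ hsc
      rw [← hk] at this
      simpa [mul_assoc] using this
    set w := k⁻¹ * c * k⁻¹⁻¹
    set K := centralizer ({D.z} : Set G) ⊓ C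
    let f : Fin 4 × Fin 3 → G := fun p => (![1, D.z, D.τ, D.z * D.τ] p.1) * D.y ^ (p.2 : ℕ)
    have hfK : ∀ p, f p ∈ (K : Set G) := by
      rintro ⟨i, j⟩
      refine ⟨mul_mem ?_ (pow_mem (mem_centralizer_singleton_iff.2 D.zy.eq.symm) _),
        mul_mem ?_ (pow_mem (mem_centralizer_singleton_iff.2 rfl) _)⟩
      · fin_cases i
        exacts [one_mem _, mem_centralizer_singleton_iff.2 rfl,
          mem_centralizer_singleton_iff.2 D.zτ.eq.symm,
          mul_mem (mem_centralizer_singleton_iff.2 rfl) (mem_centralizer_singleton_iff.2 D.zτ.eq.symm)]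
      · fin_cases i
        exacts [one_mem _, mem_centralizer_singleton_iff.2 D.zy.eq,
          mem_centralizer_singleton_iff.2 D.τy.eq,
          mul_mem (mem_centralizer_singleton_iff.2 D.zy.eq) (mem_centralizer_singleton_iff.2 D.τy.eq)]
    have hvv : ∀ i : Fin 4, (![1, D.z, D.τ, D.z * D.τ] i) ^ 2 = 1 := by
      intro i; fin_cases i
      · simp
      · simp [sq, mul_self D.hz]
      · simp [sq, mul_self D.hτ]
      · show (D.z * D.τ) ^ 2 = 1
        rw [D.zτ.mul_pow, sq, sq, mul_self D.hz, mul_self D.hτ, one_mul]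
    have hvy : ∀ i : Fin 4, Commute (![1, D.z, D.τ, D.z * D.τ] i) D.y := by
      intro i; fin_cases i
      exacts [Commute.one_left _, D.zy, D.τy, D.zy.mul_left D.τy]
    have hfinj : Function.Injective f := by
      rintro ⟨i, j⟩ ⟨i', j'⟩ e
      have e2 := congrArg (· ^ 2) e
      simp only [f, ((hvy _).pow_right _).mul_pow, hvv, one_mul, ← pow_mul] at e2
      have hj : (j : ℕ) * 2 ≡ (j' : ℕ) * 2 [MOD 3] := by
        have := pow_eq_pow_iff_modEq.1 e2
        rwa [D.hy] at this
      have hjj : j = j' := by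
        apply Fin.ext
        unfold Nat.ModEq at hj
        omega
      subst hjj
      refine Prod.ext ?_ rfl
      have e3 := mul_right_cancel e
      have hzne : D.z ≠ 1 := fun e => by have := D.hz; rw [e, orderOf_one] at this; omega
      have hτne : D.τ ≠ 1 := fun e => by have := D.hτ; rw [e, orderOf_one] at this; omega
      revert e3
      fin_cases i <;> fin_cases i' <;> intro e3 <;> first
        | rfl
        | exact absurd e3 hzne | exact absurd e3.symm hzne
        | exact absurd e3 hτne | exact absurd e3.symm hτne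
        | exact absurd e3 D.hτz | exact absurd e3.symm D.hτz
        | exact absurd (left_eq_mul.1 e3) hτne | exact absurd (left_eq_mul.1 e3.symm) hτne
        | exact absurd (right_eq_mul.1 e3) hzne | exact absurd (right_eq_mul.1 e3.symm) hzne
        | exact absurd (mul_eq_one_iff_eq_inv.1 e3) (by rw [inv_self D.hτ]; exact D.hτz.symm)
        | exact absurd (mul_eq_one_iff_eq_inv.1 e3.symm) (by rw [inv_self D.hτ]; exact D.hτz.symm)
    have hKC : K ≤ centralizer ({D.z} : Set G) := inf_le_left
    have hK : Nat.card K ≤ 12 := by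
      have hd := Subgroup.card_dvd_of_le hKC
      rw [D.card] at hd
      by_contra hgt
      have hKe : K = centralizer ({D.z} : Set G) := by
        refine Subgroup.eq_of_le_of_card_ge hKC ?_
        rw [D.card]
        have := Nat.le_of_dvd (by norm_num) hd
        have : Nat.card K ∈ Nat.divisors 24 := Nat.mem_divisors.2 ⟨hd, by norm_num⟩
        have h24 : ∀ x ∈ Nat.divisors 24, 12 < x → 24 ≤ x := by decide +kernel
        exact h24 _ this (by omega)
      have hsK : D.s ∈ K := hKe ▸ mem_centralizer_singleton_iff.2 D.zs.eq.symm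
      have e1 : Commute D.s D.y := mem_centralizer_singleton_iff.1 hsK.2
      have := D.sy
      rw [e1.eq, mul_inv_cancel_right] at this
      exact D.y_not_involution this
    have hbij : Function.Bijective (fun p => (⟨f p, hfK p⟩ : K)) :=
      Function.Injective.bijective_of_nat_card_le (fun a b e => hfinj (congrArg Subtype.val e))
        (by simpa using hK)
    obtain ⟨⟨i, j⟩, hij⟩ := hbij.2 ⟨w, mem_centralizer_singleton_iff.2 hcz.eq.symm,
      mem_centralizer_singleton_iff.2 hc'.eq⟩
    refine ⟨![1, D.z, D.τ, D.z * D.τ] i, D.y ^ (j : ℕ), ?_, pow_mem (mem_zpowers _) _, ?_⟩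
    · fin_cases i <;> simp
    · have e0 : f (i, j) = w := congrArg Subtype.val hij
      show c = k * f (i, j) * k⁻¹
      rw [e0]; simp only [w]; group
  set v5 := k * v * k⁻¹ with hv5
  set e5 := k * e * k⁻¹ with he5
  have hce : c = v5 * e5 := by rw [hve, hv5, he5]; group
  have he5y : e5 ∈ zpowers y5 := by
    obtain ⟨i, rfl⟩ := mem_zpowers_iff.1 he
    exact mem_zpowers_iff.2 ⟨i, by rw [hy5, conj_zpow]⟩
  have hze5 : D.z * e5 * D.z⁻¹ = e5⁻¹ := by
    obtain ⟨i, hi⟩ := mem_zpowers_iff.1 he5y
    rw [← hi, ← conj_zpow, hzy5, inv_zpow]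
  have hvy5 : Commute v5 y5 := by
    rw [hv5, hy5]
    rcases hv with rfl | rfl | rfl | rfl
    exacts [conj_commute k (Commute.one_left _), conj_commute k D.zy, conj_commute k D.τy,
      conj_commute k (D.zy.mul_left D.τy)]
  have hve5 : Commute v5 e5 := by
    obtain ⟨i, hi⟩ := mem_zpowers_iff.1 he5y
    exact hi ▸ hvy5.zpow_right i
  have hvv5 : v5 * v5 = 1 := by
    rw [hv5]
    have : v * v = 1 := by
      rcases hv with rfl | rfl | rfl | rfl
      · exact one_mul 1
      · exact mul_self D.hz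
      · exact mul_self D.hτ
      · exact mul_self (orderOf_mul_two D.hz D.hτ D.zτ D.hτz.symm)
    calc k * v * k⁻¹ * (k * v * k⁻¹) = k * (v * v) * k⁻¹ := by group
      _ = 1 := by rw [this]; group
  have hu : u = v5 * e5 * D.z := by rw [← hce, hc, mul_assoc, mul_self D.hz, mul_one]
  have hzv : Commute D.z v5 := by
    have h1 : u * u = 1 := mul_self hu2
    rw [hu] at h1
    have h2 : v5 * e5 * (D.z * v5 * D.z⁻¹) * (D.z * e5 * D.z⁻¹) * (D.z * D.z) = 1 := by
      rw [← h1, inv_self D.hz]
      simp only [mul_assoc]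
      rw [← mul_assoc D.z D.z, mul_self D.hz, one_mul, mul_one]
    rw [mul_self D.hz, mul_one, hze5] at h2
    have hzs : D.z * D.s * D.z⁻¹ = D.s := by rw [D.zs.eq, mul_inv_cancel_right]
    set w := D.z * v5 * D.z⁻¹ with hw
    have hwy : Commute w y5 := by
      have h3 := conj_commute D.z hvy5
      rw [hzy5] at h3
      simpa using h3.inv_right
    have hwe : Commute w e5 := by
      obtain ⟨i, hi⟩ := mem_zpowers_iff.1 he5y
      exact hi ▸ hwy.zpow_right i
    rw [mul_assoc v5, ← hwe.eq, ← mul_assoc, mul_inv_cancel_right] at h2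
    have h4 : w = v5 := by
      rw [← inv_eq_of_mul_eq_one_right hvv5]; exact (inv_eq_of_mul_eq_one_right h2).symm
    exact mul_inv_eq_iff_eq_mul.1 h4
  have hv' : v = 1 ∨ v = D.z := by
    have hrel : Commute D.z (k⁻¹ * D.z * k⁻¹⁻¹) := by
      have := conj_commute k⁻¹ D.zs.symm
      rw [← hk] at this
      simpa [mul_assoc] using this
    have hkv : Commute (k⁻¹ * D.z * k⁻¹⁻¹) v := by
      have := conj_commute k⁻¹ hzv
      simpa [hv5, mul_assoc] using this
    have hnot : ∀ w, Commute D.z w → Commute D.τ w → Commute w D.y := by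
      intro w hw1 hw2
      set K := centralizer ({D.z} : Set G) ⊓ centralizer ({D.τ} : Set G)
      set K' := centralizer ({D.z} : Set G) ⊓ C
      have hwK : w ∈ K := ⟨mem_centralizer_singleton_iff.2 hw1.eq.symm,
        mem_centralizer_singleton_iff.2 hw2.eq.symm⟩
      have hk12 : Nat.card K ≤ 12 := by
        have hd := Subgroup.card_dvd_of_le (show K ≤ centralizer ({D.z} : Set G) from inf_le_left)
        rw [D.card] at hd
        by_contra hgt
        have hKe : K = centralizer ({D.z} : Set G) := by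
          refine Subgroup.eq_of_le_of_card_ge inf_le_left ?_
          rw [D.card]
          have : Nat.card K ∈ Nat.divisors 24 := Nat.mem_divisors.2 ⟨hd, by norm_num⟩
          have h24 : ∀ x ∈ Nat.divisors 24, 12 < x → 24 ≤ x := by decide +kernel
          exact h24 _ this (by omega)
        have hsK : D.s ∈ K := hKe ▸ mem_centralizer_singleton_iff.2 D.zs.eq.symm
        exact D.sτ (mem_centralizer_singleton_iff.1 hsK.2)
      set K₀ := closure ({D.z, D.τ, D.y} : Set G)
      have hK₀K : K₀ ≤ K := by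
        rw [closure_le]
        rintro x (rfl | rfl | rfl)
        · exact ⟨mem_centralizer_singleton_iff.2 rfl, mem_centralizer_singleton_iff.2 D.zτ.eq⟩
        · exact ⟨mem_centralizer_singleton_iff.2 D.zτ.eq.symm, mem_centralizer_singleton_iff.2 rfl⟩
        · exact ⟨mem_centralizer_singleton_iff.2 D.zy.eq.symm,
            mem_centralizer_singleton_iff.2 D.τy.eq.symm⟩
      have hK₀C : K₀ ≤ C := by
        rw [closure_le]
        rintro x (rfl | rfl | rfl)
        exacts [mem_centralizer_singleton_iff.2 D.zy.eq, mem_centralizer_singleton_iff.2 D.τy.eq,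
          mem_centralizer_singleton_iff.2 rfl]
      have h12 : 12 ≤ Nat.card K₀ := by
        have h3 : 3 ∣ Nat.card K₀ := by
          rw [← D.hy]
          exact Subgroup.orderOf_dvd_natCard _ (subset_closure (by simp))
        have hV : (closure ({D.z, D.τ} : Set G)) ≤ K₀ := closure_mono (by
          intro x hx; rcases hx with rfl | rfl <;> simp)
        have h4 : 4 ≤ Nat.card (closure ({D.z, D.τ} : Set G)) := by
          set V := closure ({D.z, D.τ} : Set G)
          have hzV : D.z ∈ V := subset_closure (Or.inl rfl)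
          have hτV : D.τ ∈ V := subset_closure (Or.inr rfl)
          let f : Fin 4 → V := ![1, ⟨D.z, hzV⟩, ⟨D.τ, hτV⟩, ⟨D.z * D.τ, mul_mem hzV hτV⟩]
          have hzne : D.z ≠ 1 := fun e => by have := D.hz; rw [e, orderOf_one] at this; omega
          have hτne : D.τ ≠ 1 := fun e => by have := D.hτ; rw [e, orderOf_one] at this; omega
          have hf : Function.Injective f := by
            intro i j e
            have e3 := congrArg Subtype.val e
            revert e3
            fin_cases i <;> fin_cases j <;> intro e3 <;> first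
              | rfl
              | exact absurd e3 hzne | exact absurd e3.symm hzne
              | exact absurd e3 hτne | exact absurd e3.symm hτne
              | exact absurd e3 D.hτz | exact absurd e3.symm D.hτz
              | exact absurd (left_eq_mul.1 e3) hτne | exact absurd (left_eq_mul.1 e3.symm) hτne
              | exact absurd (right_eq_mul.1 e3) hzne | exact absurd (right_eq_mul.1 e3.symm) hzne
              | exact absurd (mul_eq_one_iff_eq_inv.1 e3) (by rw [inv_self D.hτ]; exact D.hτz.symm)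
              | exact absurd (mul_eq_one_iff_eq_inv.1 e3.symm) (by rw [inv_self D.hτ]; exact D.hτz.symm)
          simpa using Nat.card_le_card_of_injective f hf
        obtain ⟨l, hl⟩ := h3
        have hd4 := Subgroup.card_dvd_of_le hV
        have hd24 : Nat.card (closure ({D.z, D.τ} : Set G)) ∣ Nat.card K := dvd_trans hd4
          (Subgroup.card_dvd_of_le hK₀K)
        have hpos : 0 < Nat.card K₀ := Nat.card_pos
        have hle := Nat.le_of_dvd hpos hd4
        obtain ⟨m, hm⟩ := hd4
        have hdK := (Subgroup.card_dvd_of_le hK₀K).trans (Subgroup.card_dvd_of_le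
          (show K ≤ centralizer ({D.z} : Set G) from inf_le_left))
        rw [D.card] at hdK
        have hmem : Nat.card K₀ ∈ Nat.divisors 24 := Nat.mem_divisors.2 ⟨hdK, by norm_num⟩
        have h24 : ∀ x ∈ Nat.divisors 24, 4 ≤ x → 3 ∣ x → x = 6 ∨ 12 ≤ x := by decide +kernel
        rcases h24 _ hmem (le_trans h4 hle) ⟨l, hl⟩ with h6 | h6
        · exfalso
          have hd6 : Nat.card (closure ({D.z, D.τ} : Set G)) ∣ 6 := ⟨m, by rw [← h6, hm]⟩
          have h46 : ∀ x ∈ Nat.divisors 6, 4 ≤ x → x = 6 := by decide +kernel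
          have e6 := h46 _ (Nat.mem_divisors.2 ⟨hd6, by norm_num⟩) h4
          haveI : Fact (Nat.Prime 3) := ⟨Nat.prime_three⟩
          obtain ⟨⟨x, hx⟩, ho⟩ := exists_prime_orderOf_dvd_card' (G := closure ({D.z, D.τ} : Set G)) 3
            (by rw [e6]; norm_num)
          rw [← Subgroup.orderOf_coe] at ho
          suffices hall : ∀ w ∈ closure ({D.z, D.τ} : Set G), w * w = 1 ∧ Commute w D.z ∧ Commute w D.τ by
            have h2 := hall x hx
            have := Nat.le_of_dvd two_pos (orderOf_dvd_of_pow_eq_one (show x ^ 2 = 1 by rw [sq, h2.1]))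
            have ho' : orderOf x = 3 := ho
            omega
          intro x hx
          induction hx using closure_induction with
          | mem w hw =>
            rcases hw with rfl | rfl
            · exact ⟨mul_self D.hz, Commute.refl _, D.zτ⟩
            · exact ⟨mul_self D.hτ, D.zτ.symm, Commute.refl _⟩
          | one => exact ⟨one_mul 1, Commute.one_left _, Commute.one_left _⟩
          | mul a b ha hb iha ihb =>
            refine ⟨?_, iha.2.1.mul_left ihb.2.1, iha.2.2.mul_left ihb.2.2⟩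
            have hab : Commute a b := by
              have : closure ({D.z, D.τ} : Set G) ≤ centralizer ({a} : Set G) := by
                rw [closure_le]
                rintro w (rfl | rfl)
                exacts [mem_centralizer_singleton_iff.2 iha.2.1.eq.symm,
                  mem_centralizer_singleton_iff.2 iha.2.2.eq.symm]
              exact (mem_centralizer_singleton_iff.1 (this hb)).symm
            rw [sq_mul_of_commute hab, iha.1, ihb.1, one_mul]
          | inv a ha iha => exact ⟨by rw [← mul_inv_rev, iha.1, inv_one], iha.2.1.inv_left, iha.2.2.inv_left⟩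
        · exact h6
      have hKK : K₀ = K := Subgroup.eq_of_le_of_card_ge hK₀K (by omega)
      exact mem_centralizer_singleton_iff.1 (hK₀C (hKK ▸ hwK))
    have hwy : ¬ Commute (k⁻¹ * D.z * k⁻¹⁻¹) D.y := by
      intro e
      apply hzy5'
      have := conj_commute k e
      simpa [hy5, mul_assoc] using this
    rcases hv with e | e | e | e
    · exact Or.inl e
    · exact Or.inr e
    · exfalso
      rw [e] at hkv
      exact hwy (hnot _ hrel hkv.symm)
    · exfalso
      rw [e] at hkv
      refine hwy (hnot _ hrel ?_)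
      have h2 := hrel.mul_left hkv.symm
      rwa [← mul_assoc, mul_self D.hz, one_mul] at h2
  -- the case `v = 1` is impossible
  have hvz : v = D.z := by
    refine hv'.resolve_left fun e1 => ?_
    have hue : u = e5 * D.z := by
      rw [hu, hv5, e1]; group
    have he3 : e5 ^ 3 = 1 := by
      obtain ⟨i, hi⟩ := mem_zpowers_iff.1 he5y
      rw [← hi, ← zpow_natCast, zpow_comm, zpow_natCast, ← hy53, pow_orderOf_eq_one, one_zpow]
    set f := e5 * e5 with hf
    have hf3 : f ^ 3 = 1 := by rw [hf, (Commute.refl e5).mul_pow, he3, one_mul]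
    have hzf : D.z * f * D.z⁻¹ = f⁻¹ := by
      rw [hf, show D.z * (e5 * e5) * D.z⁻¹ = (D.z * e5 * D.z⁻¹) * (D.z * e5 * D.z⁻¹) by group, hze5,
        ← mul_inv_rev]
    have hff : f * f = e5 := by
      rw [hf, show e5 * e5 * (e5 * e5) = e5 ^ 3 * e5 by rw [pow_succ, pow_two]; group, he3, one_mul]
    have hfu : f * D.z * f⁻¹ = u := by
      have hzfi : D.z * f⁻¹ = f * D.z := by
        have hinv := congrArg (·⁻¹) hzf
        simp only [mul_inv_rev, inv_inv] at hinv
        rw [← mul_assoc] at hinv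
        exact mul_inv_eq_iff_eq_mul.1 hinv
      rw [mul_assoc, hzfi, ← mul_assoc, hff, hue]
    set Q1 := f * D.y * f⁻¹
    have hQ1 : Q1 ∈ zpowers q := huQ Q1 (hfu ▸ conj_commute f D.zy)
      (by rw [← D.hy, ← conj_orderOf f D.y, pow_orderOf_eq_one])
    have hQy : Commute Q1 D.y := by
      obtain ⟨i, hi⟩ := mem_zpowers_iff.1 hQ1
      exact hi ▸ hqy.zpow_left i
    have hQ2 : Commute (f⁻¹ * D.y * f) D.y := by
      have h1 := conj_commute D.z hQy
      rw [show D.z * D.y * D.z⁻¹ = D.y by rw [D.zy.eq, mul_inv_cancel_right],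
        show D.z * Q1 * D.z⁻¹ = (D.z * f * D.z⁻¹) * (D.z * D.y * D.z⁻¹) * (D.z * f * D.z⁻¹)⁻¹ by
          simp only [Q1]; group, hzf, show D.z * D.y * D.z⁻¹ = D.y by rw [D.zy.eq, mul_inv_cancel_right],
        inv_inv] at h1
      exact h1
    have hr : f⁻¹ * D.y * f = f * Q1 * f⁻¹ := by
      have hinv : f⁻¹ = f * f := inv_eq_of_mul_eq_one_right (by rw [← hf3, pow_succ, pow_two]; group)
      simp only [Q1]
      conv_lhs => rw [show f⁻¹ * D.y * f = f⁻¹ * D.y * (f⁻¹)⁻¹ by rw [inv_inv], hinv]
      group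
    set r := f * Q1 * f⁻¹ with hrdef
    have hQ1r : Commute r Q1 := by
      have := conj_commute f hQy
      exact this
    have hQ1ne : Q1 ∉ zpowers D.y := by
      intro e
      have hQ11 : Q1 ≠ 1 := by
        rw [Ne, ← orderOf_eq_one_iff, conj_orderOf, D.hy]; norm_num
      have e' := zpowers_eq_of_three D.hy e hQ11
      have e'' := zpowers_eq_of_three (by rw [hqdef, conj_orderOf, D.hy]) hQ1 hQ11
      apply hg
      rw [← e', e'']
      exact mem_zpowers q
    have hQ1P : Q1 ∈ P := (zpowers_le.2 hqP) hQ1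
    have hgen : zpowers D.y ⊔ zpowers Q1 = P := by
      have hle : zpowers D.y ⊔ zpowers Q1 ≤ P := sup_le (zpowers_le.2 hyP) (zpowers_le.2 hQ1P)
      refine Subgroup.eq_of_le_of_card_ge hle ?_
      obtain ⟨i, -, hi⟩ := (Nat.dvd_prime_pow Nat.prime_three).1 (hP9 ▸ Subgroup.card_dvd_of_le hle)
      rcases Nat.lt_or_ge i 2 with hi2 | hi2
      · exfalso
        have hle' : zpowers D.y = zpowers D.y ⊔ zpowers Q1 := by
          refine Subgroup.eq_of_le_of_card_ge le_sup_left ?_
          rw [hi, Nat.card_zpowers, D.hy]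
          exact le_trans (Nat.pow_le_pow_right (by norm_num) (by omega : i ≤ 1)) (by norm_num)
        exact hQ1ne (hle' ▸ mem_sup_right (mem_zpowers Q1))
      · rw [hi, hP9]; exact Nat.pow_le_pow_right (by norm_num) hi2
    have hry : Commute r D.y := hr ▸ hQ2
    have hrP : r ∈ P := by
      refine hinC r (mem_centralizer_singleton_iff.2 hry.eq) ?_
      have hcP : P ≤ centralizer ({r} : Set G) := by
        rw [← hgen]
        exact sup_le (zpowers_le.2 (mem_centralizer_singleton_iff.2 hry.eq.symm))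
          (zpowers_le.2 (mem_centralizer_singleton_iff.2 hQ1r.eq.symm))
      refine Subgroup.mem_normalizer_iff.2 fun x => ⟨fun hx => ?_, fun hx => ?_⟩
      · rw [← mem_centralizer_singleton_iff.1 (hcP hx), mul_inv_cancel_right]
        exact hx
      · have h1 : Commute (r * x * r⁻¹) r := mem_centralizer_singleton_iff.1 (hcP hx)
        have : r * x * r⁻¹ = x := by
          have h2 := h1.eq
          calc r * x * r⁻¹ = r⁻¹ * (r * (r * x * r⁻¹)) := by group
            _ = r⁻¹ * ((r * x * r⁻¹) * r) := by rw [h2]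
            _ = x := by group
        rwa [this] at hx
    have hfN : f ∈ normalizer (P : Set G) := by
      have hle : P.map (MulAut.conj f).toMonoidHom ≤ P := by
        rw [← hgen, Subgroup.map_sup, MonoidHom.map_zpowers, MonoidHom.map_zpowers, hgen]
        exact sup_le (zpowers_le.2 hQ1P) (zpowers_le.2 hrP)
      have heq : P.map (MulAut.conj f).toMonoidHom = P := Subgroup.eq_of_le_of_card_ge hle
        (by rw [Subgroup.card_map_of_injective (MulAut.conj f).injective])
      exact Subgroup.mem_normalizer_iff.2 fun x => ⟨fun hx => by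
        rw [← heq]; exact ⟨x, hx, rfl⟩, fun hx => by
        rw [← heq] at hx
        obtain ⟨x', hx', e⟩ := hx
        exact (MulAut.conj f).injective e ▸ hx'⟩
    have hfP : f ∈ P := by
      have hp : IsPGroup 3 (zpowers f) := by
        rcases (Nat.dvd_prime Nat.prime_three).1 (orderOf_dvd_of_pow_eq_one hf3) with e | e
        · exact IsPGroup.of_card (n := 0) (by rw [Nat.card_zpowers, e, pow_zero])
        · exact IsPGroup.of_card (n := 1) (by rw [Nat.card_zpowers, e, pow_one])
      have hJ := hp.to_sup_of_normal_right' (IsPGroup.of_card hP9) (zpowers_le.2 hfN)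
      have := SP.3 hJ (hSP ▸ le_sup_right)
      rw [hSP] at this
      exact this ▸ mem_sup_left (mem_zpowers f)
    apply hQ1ne
    simp only [Q1, (hab f hfP D.y hyP).eq, mul_inv_cancel_right]
    exact mem_zpowers _
  have hvs : v5 = D.s := by rw [hv5, hvz, hk]
  set x3 := D.s * u with hx3
  have hx3e : x3 = e5 * D.z := by
    rw [hx3, hu, hvs, ← mul_assoc, ← mul_assoc, mul_self D.hs, one_mul]
  -- Moore's relations
  set x4 := D.s * D.y with hx4
  have hss := mul_self D.hs
  have hsi := inv_self D.hs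
  have hx4o : x4 * x4 = 1 := by
    rw [hx4]
    calc D.s * D.y * (D.s * D.y) = (D.s * D.y * D.s⁻¹) * (D.s * D.s) * D.y := by group
      _ = 1 := by rw [D.sy, hss]; group
  have hzz := mul_self D.hz
  have hsu2 : x3 * x3 = 1 := by
    rw [hx3, sq_mul_of_commute hsu, hss, mul_self hu2, one_mul]
  have hqn : q ∉ zpowers D.y := hg
  have hcyq : (q * D.z) ^ 3 = 1 := D.cube h hq3 hqy hqn D.hz D.zy
  have hzx3 : (D.z * x3) ^ 3 = 1 := by
    rw [hx3e, show D.z * (e5 * D.z) = D.z * e5 * D.z⁻¹ * (D.z * D.z) by group, hzz, mul_one, hze5,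
      inv_pow, inv_eq_one]
    obtain ⟨i, hi⟩ := mem_zpowers_iff.1 he5y
    rw [← hi, ← zpow_natCast, zpow_comm, zpow_natCast, ← hy53, pow_orderOf_eq_one, one_zpow]
  have h34 : (x3 * x4) ^ 3 = 1 := by
    have e : x3 * x4 = u * D.y := by
      rw [hx3, hx4, hsu.eq, mul_assoc, ← mul_assoc D.s, hss, one_mul]
    rw [e]
    have hyu : (D.y * u) ^ 3 = 1 := by
      have hgy : g⁻¹ * D.y * g⁻¹⁻¹ ∉ zpowers D.y := by
        intro e
        have hne1 : g⁻¹ * D.y * g⁻¹⁻¹ ≠ 1 := by
          rw [Ne, ← orderOf_eq_one_iff, conj_orderOf, D.hy]; norm_num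
        apply hg
        have e' := zpowers_eq_of_three D.hy e hne1
        obtain ⟨i, hi⟩ := mem_zpowers_iff.1
          (show D.y ∈ zpowers (g⁻¹ * D.y * g⁻¹⁻¹) from e'.symm ▸ mem_zpowers _)
        have hh : g * D.y * g⁻¹ = (g * (g⁻¹ * D.y * g⁻¹⁻¹) * g⁻¹) ^ i := by rw [conj_zpow, hi]
        rw [hqdef, hh]
        refine zpow_mem ?_ i
        convert mem_zpowers D.y using 1
        group
      have h1 := D.cube h (q := g⁻¹ * D.y * g⁻¹⁻¹) (a := g⁻¹ * u * g⁻¹⁻¹)
        (by rw [conj_pow, ← D.hy, pow_orderOf_eq_one]; group)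
        (by have := conj_commute g⁻¹ hqy.symm; simpa [hqdef, mul_assoc] using this) hgy
        (by rw [conj_orderOf, hu2])
        (by have := conj_commute g⁻¹ huq; simpa [hqdef, mul_assoc] using this)
      rw [show g⁻¹ * D.y * g⁻¹⁻¹ * (g⁻¹ * u * g⁻¹⁻¹) = g⁻¹ * (D.y * u) * g⁻¹⁻¹ by group,
        conj_pow] at h1
      exact (conj_eq_one_iff).1 h1
    rw [show u * D.y = u * (D.y * u) * u⁻¹ by group, conj_pow, hyu]; group
  have h45 : (x4 * D.s) ^ 3 = 1 := by
    rw [hx4, show D.s * D.y * D.s = D.s * D.y * D.s⁻¹ by rw [hsi], D.sy, inv_pow, ← D.hy,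
      pow_orderOf_eq_one, inv_one]
  have hflip : ∀ {a b : G}, b * b = 1 → b * a * b⁻¹ = a⁻¹ → (a * b) ^ 2 = 1 := by
    intro a b hb hab
    calc (a * b) ^ 2 = a * (b * a * b⁻¹) * (b * b) := by rw [sq]; group
      _ = 1 := by rw [hab, hb]; group
  have hq3' : (q * x3) ^ 2 = 1 := by
    refine hflip hsu2 ?_
    rw [hx3, show D.s * u * q * (D.s * u)⁻¹ = D.s * (u * q * u⁻¹) * D.s⁻¹ by group, huq.eq,
      mul_inv_cancel_right, hsq]
  have hq4 : (q * x4) ^ 2 = 1 := by
    refine hflip hx4o ?_
    rw [hx4, show D.s * D.y * q * (D.s * D.y)⁻¹ = D.s * (D.y * q * D.y⁻¹) * D.s⁻¹ by group,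
      hqy.symm.eq, mul_inv_cancel_right, hsq]
  have hq5 : (q * D.s) ^ 2 = 1 := hflip hss hsq
  have hz4 : (D.z * x4) ^ 2 = 1 := by
    rw [((D.zs.mul_right D.zy) : Commute D.z x4).mul_pow, sq, sq, hzz, hx4o, one_mul]
  have hz5 : (D.z * D.s) ^ 2 = 1 := by rw [D.zs.mul_pow, sq, sq, hzz, hss, one_mul]
  have h35 : (x3 * D.s) ^ 2 = 1 := by
    rw [((Commute.refl D.s).mul_right hsu).symm.mul_pow, sq, sq, hsu2, hss, one_mul]
  obtain ⟨e⟩ := Cfsg.Agent.S3335.result 7 (by norm_num)
  let x : Fin (7 - 2) → G := ![q, D.z, x3, x4, D.s]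
  have hx : ∀ r ∈ ({g : FreeGroup (Fin (7 - 2)) | ∃ i : Fin (7 - 2), i.val = 0 ∧ g = FreeGroup.of i ^ 3} ∪
       {g | ∃ i : Fin (7 - 2), 1 ≤ i.val ∧ g = FreeGroup.of i ^ 2} ∪
       {g | ∃ i j : Fin (7 - 2), j.val = i.val + 1 ∧ g = (FreeGroup.of i * FreeGroup.of j) ^ 3} ∪
       {g | ∃ i j : Fin (7 - 2), i.val + 1 < j.val ∧ g = (FreeGroup.of i * FreeGroup.of j) ^ 2}),
      FreeGroup.lift x r = 1 := by
    rintro r (((⟨i, hi, rfl⟩ | ⟨i, hi, rfl⟩) | ⟨i, j, hij, rfl⟩) | ⟨i, j, hij, rfl⟩)
    · obtain rfl : i = 0 := Fin.ext hi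
      simpa [x] using hq3
    · fin_cases i
      · exact absurd hi (by decide)
      all_goals simp only [map_pow, map_mul, FreeGroup.lift_apply_of, sq]
      exacts [hzz, hsu2, hx4o, hss]
    · fin_cases i <;> fin_cases j <;>
        first
          | exact absurd hij (by decide)
          | skip
      all_goals simp only [map_pow, map_mul, FreeGroup.lift_apply_of]
      exacts [hcyq, hzx3, h34, h45]
    · fin_cases i <;> fin_cases j <;>
        first
          | exact absurd hij (by decide)
          | skip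
      all_goals simp only [map_pow, map_mul, FreeGroup.lift_apply_of]
      exacts [hq3', hq4, hq5, hz4, hz5, h35]
  let φ : alternatingGroup (Fin 7) →* G :=
    (PresentedGroup.toGroup hx).comp e.symm.toMonoidHom
  haveI : IsSimpleGroup (alternatingGroup (Fin 7)) := alternatingGroup.isSimpleGroup (by simp)
  have hker : φ.ker = ⊥ := by
    refine (IsSimpleGroup.eq_bot_or_eq_top_of_normal _ inferInstance).resolve_right fun htop => hq1 ?_
    have hmem : e (PresentedGroup.of (0 : Fin (7 - 2))) ∈ φ.ker := htop ▸ mem_top _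
    rw [MonoidHom.mem_ker] at hmem
    simpa [φ, x, PresentedGroup.toGroup.of] using hmem
  have hA : Nat.card (alternatingGroup (Fin 7)) = 2520 := by
    rw [nat_card_alternatingGroup]; simp [Nat.factorial]
  exact h.no_iso.false (MulEquiv.ofBijective φ (((MonoidHom.ker_eq_bot_iff φ).1 hker).bijective_of_nat_card_le
    (by rw [hA, h.card]))).symm

end Cfsg.Agent.H68.SimpleA7
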